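/-
Data for normalising a subgroup L3(2) of the isometries of the six-dimensional quotient: found by a search.
-/
import Cfsg.Agent.Lib.Spor.HeldRecog.Model.Basic

namespace CfsgLib.Spor.HeldRecog.Norm

/-- The powers of the normalised element of order seven. -/
def powD : List ℕ := [0x3f3e3d3c3b3a393837363534333231302f2e2d2c2b2a292827262524232221201f1e1d1c1b1a191817161514131211100f0e0d0c0b0a09080706050403020100, 0x1e1c1b191f1d1a180e0c0b090f0d0a083e3c3b393f3d3a382e2c2b292f2d2a283634333137353230262423212725222016141311171512100604030107050200, 0x343137323633353014111712161315101c191f1a1e1b1d183c393f3a3e3b3d380c090f0a0e0b0d082c292f2a2e2b2d2824212722262325200401070206030500, 0x90a0e0d0c0f0b0821222625242723203132363534373330191a1e1d1c1f1b181112161514171310393a3e3d3c3f3b38292a2e2d2c2f2b280102060504070300, 0x12151413111617102a2d2c2b292e2f280a0d0c0b090e0f08323534333136373022252423212627201a1d1c1b191e1f183a3d3c3b393e3f380205040301060700, 0x25232127222426203d3b393f3a3c3e3815131117121416100d0b090f0a0c0e082d2b292f2a2c2e2835333137323436301d1b191f1a1c1e180503010702040600,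 0x2b2f2a2e2d292c281b1f1a1e1d191c18232722262521242013171216151114103b3f3a3e3d393c380b0f0a0e0d090c0833373236353134300307020605010400]

/-- A cyclic vector. -/
def cycVec : ℕ :=
  9

/-- Coordinates for the basis given by the cyclic vector. -/
def cycCoord : ℕ :=
  0x10073e2924330a1d0611283f32251c0b3c2b1205081f26312a3d04131e0930273720190e03142d3a21360f1815023b2c1b0c35222f3801160d1a2334392e1700

/-- The normalised element of order three. -/
def bZero : ℕ :=
  0x1a1b1f1e1c1d191822232726242521202a2b2f2e2c2d292812131716141511100a0b0f0e0c0d090832333736343531303a3b3f3e3c3d39380203070604050100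

/-- An isometry cubing the element of order seven. -/
def nThree : ℕ :=
  0x19113139212909011c14343c242c0c041f17373f272f0f071a12323a222a0a021b13333b232b0b031e16363e262e0e061d15353d252d0d051810303820280800

/-- The first seed. -/
def seedX : ℕ :=
  3

/-- The second seed. -/
def seedY : ℕ :=
  8

/-- Coordinates for the basis given by the seeds. -/
def seedCoord : ℕ :=
  0x13141512111617101b1c1d1a191e1f183b3c3d3a393e3f38333435323136373023242522212627202b2c2d2a292e2f280b0c0d0a090e0f080304050201060700

/-- Solutions for the involution, with a pair of words, the model, and an isometry onto the model. -/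
def sols : List (ℕ × ℕ × Bool × ℕ) := [(0x1d1c1f1e1b1a191815141716131211102d2c2f2e2b2a292825242726232221203d3c3f3e3b3a393835343736333231300d0c0f0e0b0a09080504070603020100, 0, false, 0x1e1f1c1d1b1a191836373435333231300e0f0c0d0b0a090826272425232221203e3f3c3d3b3a393816171415131211102e2f2c2d2b2a29280607040503020100),
  (0x1a1b18191c1d1e1f10111213161714152d2c2f2e2b2a2928272625242120232238393a3b3e3f3c3d32333031343536370f0e0d0c09080b0a0504070603020100, 0, true, 0x341c21090c241931022a173f3a122f07042c11393c142901321a270f0a221f37032b163e3b132e06351d20080d251830331b260e0b231e36052d10383d152800),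
  (0xd0c2f2e3b3a191805042726333211103d3c1f1e0b0a292835341716030221202d2c0f0e1b1a393825240706131231301d1c3f3e2b2a09081514373623220100, 1, true, 0x1906011e021d1a05213e39263a25223d0c13140b17080f10342b2c332f303728312e29362a35322d0916110e120d0a15243b3c233f2027381c03041b07181f00)]

/-- Pairs of words in the three generators. -/
def wordPairs : List (List ℕ × List ℕ) := [([0, 0, 0, 2, 1, 0, 1], [1, 1, 0, 2, 0, 1]), ([0, 0, 0, 2, 1, 0, 1], [2, 0, 2, 0, 1, 0])]

-- matrices: d !![0, 0, 1; 1, 0, 1; 0, 1, 0] b !![1, 0, 0; 0, 0, 1; 0, 1, 1] t !![1, 0, 0; 0, 1, 1; 0, 0, 1] ; orders of t*d^k: [4, 3, 7]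
end CfsgLib.Spor.HeldRecog.Norm
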