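/-
Subgroups L₃(2) of the isometries of the six-dimensional orthogonal space of plus type over two elements,
up to conjugacy, by normalising three generators.
-/
import Cfsg.Agent.Lib.Spor.HeldRecog.Cent.NormData
import Cfsg.Agent.Lib.Spor.HeldRecog.Model.Data
import Mathlib.GroupTheory.Sylow
import Mathlib.GroupTheory.Perm.Basic

set_option autoImplicit false
set_option maxRecDepth 100000

namespace CfsgLib.Spor.HeldRecog.Norm

open CfsgLib.Spor.TC Equiv

theorem allFrom_intro {f : ℕ → Bool} : ∀ {len a : ℕ}, (∀ i, a ≤ i → i < a + len → f i = true) →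
    allFrom f a len = true := by
  intro len
  induction len with
  | zero => intro a _; rfl
  | succ len ih =>
    intro a h
    show (f a && allFrom f (a + 1) len) = true
    rw [h a le_rfl (by omega), ih fun i h1 h2 => h i (by omega) (by omega)]
    rfl

theorem exists_of_allFrom_false {f : ℕ → Bool} {n : ℕ} (h : allFrom f 0 n = false) : ∃ i, i < n ∧ f i = false := by
  by_contra hne
  push Not at hne
  rw [allFrom_intro fun i _ hi => by
    have := hne i (by omega)
    simpa using this] at h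
  exact Bool.false_ne_true h.symm

/-- The quadratic form. -/
noncomputable def wq (x : ℕ) : ℕ := par3 (Nat.land (Nat.land (Nat.shiftRight x 3) x) 7)

/-- An entry of a packed map. -/
noncomputable def tb (c n : ℕ) : ℕ := Nat.land (Nat.shiftRight c (Nat.mul 8 n)) 255

/-- A permutation of 64 points on numbers. -/
def nf (f : Perm (Fin 64)) (n : ℕ) : ℕ := if h : n < 64 then f ⟨n, h⟩ else n

theorem nf_lt {f : Perm (Fin 64)} {n : ℕ} (h : n < 64) : nf f n < 64 := by rw [nf, dif_pos h]; exact (f _).2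

theorem nf_mul (f g : Perm (Fin 64)) (n : ℕ) : nf (f * g) n = nf f (nf g n) := by
  unfold nf
  by_cases h : n < 64
  · simp only [dif_pos h, Fin.is_lt, Perm.mul_apply, Fin.eta, dif_pos]
  · simp only [dif_neg h]

theorem nf_one (n : ℕ) : nf 1 n = n := by unfold nf; split <;> rfl

theorem nf_inj {f : Perm (Fin 64)} {a b : ℕ} (ha : a < 64) (hb : b < 64) (h : nf f a = nf f b) : a = b := by
  simp only [nf, dif_pos ha, dif_pos hb] at h
  exact congrArg Fin.val (f.injective (Fin.ext h))

theorem perm_ext {f g : Perm (Fin 64)} (h : ∀ n, n < 64 → nf f n = nf g n) : f = g := by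
  refine Equiv.ext fun x => Fin.ext ?_
  have := h x x.2
  simpa [nf, x.2] using this

/-- Additive and form preserving. -/
def InO (f : Perm (Fin 64)) : Prop :=
  (∀ x y, x < 64 → y < 64 → nf f (x ^^^ y) = nf f x ^^^ nf f y) ∧ ∀ x, x < 64 → wq (nf f x) = wq x

theorem xor_lt {x y : ℕ} (hx : x < 64) (hy : y < 64) : x ^^^ y < 64 := Nat.xor_lt_two_pow (n := 6) hx hy

/-- The isometry group. -/
def orth : Subgroup (Perm (Fin 64)) where
  carrier := {f | InO f}
  one_mem' := ⟨fun x y _ _ => by simp [nf_one], fun x _ => by simp [nf_one]⟩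
  mul_mem' := by
    intro f g hf hg
    refine ⟨fun x y hx hy => ?_, fun x hx => ?_⟩
    · rw [nf_mul, nf_mul, nf_mul, hg.1 x y hx hy, hf.1 _ _ (nf_lt hx) (nf_lt hy)]
    · rw [nf_mul, hf.2 _ (nf_lt hx), hg.2 x hx]
  inv_mem' := by
    intro f hf
    have key : ∀ x, x < 64 → nf f (nf f⁻¹ x) = x := fun x hx => by rw [← nf_mul, mul_inv_cancel, nf_one]
    refine ⟨fun x y hx hy => ?_, fun x hx => ?_⟩
    · refine nf_inj (f := f) (nf_lt (xor_lt hx hy)) (xor_lt (nf_lt hx) (nf_lt hy)) ?_
      rw [key _ (xor_lt hx hy), hf.1 _ _ (nf_lt hx) (nf_lt hy), key x hx, key y hy]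
    · rw [← hf.2 _ (nf_lt hx), key x hx]

theorem mem_orth {f : Perm (Fin 64)} : f ∈ orth ↔ InO f := Iff.rfl

theorem nf_zero {f : Perm (Fin 64)} (h : InO f) : nf f 0 = 0 := by
  have := h.1 0 0 (by omega) (by omega)
  simpa using this

/-- The combination of six vectors selected by the bits. -/
noncomputable def comb (im : List ℕ) (c : ℕ) : ℕ :=
  List.rec (motive := fun _ => ℕ → ℕ) (fun _ => 0)
    (fun a _ ih c => Nat.xor (Bool.rec 0 a (Nat.beq (Nat.land c 1) 1)) (ih (Nat.shiftRight c 1))) im c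

theorem comb_map {f : Perm (Fin 64)} (h : InO f) :
    ∀ (l : List ℕ), (∀ a ∈ l, a < 64) → ∀ c, comb l c < 64 ∧ nf f (comb l c) = comb (l.map (nf f)) c := by
  intro l
  induction l with
  | nil => exact fun _ c => ⟨show (0 : ℕ) < 64 by omega, nf_zero h⟩
  | cons a l ih =>
    intro hl c
    obtain ⟨h1, h2⟩ := ih (fun b hb => hl b (List.mem_cons_of_mem _ hb)) (Nat.shiftRight c 1)
    show Nat.xor (Bool.rec 0 a (Nat.beq (Nat.land c 1) 1)) (comb l (Nat.shiftRight c 1)) < 64 ∧
      nf f (Nat.xor (Bool.rec 0 a (Nat.beq (Nat.land c 1) 1)) (comb l (Nat.shiftRight c 1))) =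
        Nat.xor (Bool.rec 0 (nf f a) (Nat.beq (Nat.land c 1) 1)) (comb (l.map (nf f)) (Nat.shiftRight c 1))
    cases Nat.beq (Nat.land c 1) 1
    · exact ⟨xor_lt (show (0 : ℕ) < 64 by omega) h1, by
        show nf f (0 ^^^ comb l (Nat.shiftRight c 1)) = 0 ^^^ _
        rw [Nat.zero_xor, Nat.zero_xor, h2]⟩
    · have ha := hl a List.mem_cons_self
      exact ⟨xor_lt ha h1, by
        show nf f (a ^^^ comb l (Nat.shiftRight c 1)) = nf f a ^^^ _
        rw [h.1 _ _ ha h1, h2]⟩

/-- A packed map is a permutation. -/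
noncomputable def injOK (c : ℕ) : Bool :=
  allFrom (fun x => Nat.blt (tb c x) 64 &&
    allFrom (fun y => Nat.beq x y || !Nat.beq (tb c x) (tb c y)) 0 64) 0 64

/-- A packed map is an isometry. -/
noncomputable def isoOK (c : ℕ) : Bool :=
  injOK c && allFrom (fun x => Nat.beq (wq (tb c x)) (wq x) &&
    allFrom (fun y => Nat.beq (tb c (Nat.xor x y)) (Nat.xor (tb c x) (tb c y))) 0 64) 0 64

/-- The permutation of a packed map. -/
noncomputable def permOf (c : ℕ) : Perm (Fin 64) :=
  if h : ∀ x : Fin 64, tb c x < 64 then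
    if h' : Function.Bijective fun x : Fin 64 => (⟨tb c x, h x⟩ : Fin 64) then Equiv.ofBijective _ h' else 1
  else 1

theorem nf_permOf {c : ℕ} (h : injOK c = true) {n : ℕ} (hn : n < 64) : nf (permOf c) n = tb c n := by
  unfold injOK at h
  have h1 : ∀ x : Fin 64, tb c x < 64 := fun x => by
    have h2 := of_allFrom h x.2
    simp only [Bool.and_eq_true] at h2
    exact Nat.le_of_ble_eq_true h2.1
  have h3 : Function.Bijective fun x : Fin 64 => (⟨tb c x, h1 x⟩ : Fin 64) := by
    refine Finite.injective_iff_bijective.1 fun x y e => ?_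
    have h2 := of_allFrom h x.2
    simp only [Bool.and_eq_true] at h2
    have h4 := of_allFrom h2.2 y.2
    simp only [Bool.or_eq_true, Bool.not_eq_true'] at h4
    rcases h4 with h4 | h4
    · exact Fin.ext (beq_eq h4)
    · rw [show tb c x = tb c y from congrArg Fin.val e] at h4
      simp at h4
  rw [permOf, dif_pos h1, dif_pos h3, nf, dif_pos hn]
  rfl

theorem permOf_mem {c : ℕ} (h : isoOK c = true) : permOf c ∈ orth := by
  unfold isoOK at h
  simp only [Bool.and_eq_true] at h
  refine ⟨fun x y hx hy => ?_, fun x hx => ?_⟩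
  · have h1 := of_allFrom h.2 hx
    simp only [Bool.and_eq_true] at h1
    have h2 := of_allFrom h1.2 hy
    rw [nf_permOf h.1 (xor_lt hx hy), nf_permOf h.1 hx, nf_permOf h.1 hy]
    exact beq_eq h2
  · have h1 := of_allFrom h.2 hx
    simp only [Bool.and_eq_true] at h1
    rw [nf_permOf h.1 hx]
    exact beq_eq h1.1

/-- The powers. -/
noncomputable def pD (i : ℕ) : ℕ := powD.getD i 0

/-- The normalised element of order seven. -/
noncomputable def D₀ : Perm (Fin 64) := permOf (pD 1)

/-- The normalised element of order three. -/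
noncomputable def B₀ : Perm (Fin 64) := permOf bZero

noncomputable def powOK : Bool :=
  allFrom (fun i => isoOK (pD i) && allFrom (fun x =>
    Nat.beq (tb (pD (Nat.mod (Nat.add i 1) 7)) x) (tb (pD 1) (tb (pD i) x))) 0 64) 0 7 &&
  (allFrom (fun x => Nat.beq (tb (pD 0) x) x) 0 64 && (!Nat.beq (tb (pD 1) cycVec) cycVec && isoOK bZero))

theorem pow_ok : powOK = true := by decide +kernel

theorem isoPD {i : ℕ} (hi : i < 7) : isoOK (pD i) = true := by
  have h := pow_ok
  unfold powOK at h
  simp only [Bool.and_eq_true] at h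
  have h1 := of_allFrom h.1 hi
  simp only [Bool.and_eq_true] at h1
  exact h1.1

theorem injPD {i : ℕ} (hi : i < 7) : injOK (pD i) = true := by
  have h := isoPD hi
  unfold isoOK at h
  simp only [Bool.and_eq_true] at h
  exact h.1

theorem B₀_mem : B₀ ∈ orth := by
  have h := pow_ok
  unfold powOK at h
  simp only [Bool.and_eq_true] at h
  exact permOf_mem h.2.2.2

theorem D₀_mem : D₀ ∈ orth := permOf_mem (isoPD (by omega))

theorem nf_pow {i n : ℕ} (hn : n < 64) : nf (D₀ ^ i) n = tb (pD (i % 7)) n := by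
  have h := pow_ok
  unfold powOK at h
  simp only [Bool.and_eq_true] at h
  induction i generalizing n with
  | zero => rw [pow_zero, nf_one]; have h2 := of_allFrom h.2.1 hn; exact (beq_eq h2).symm
  | succ i ih =>
    have hi : i % 7 < 7 := Nat.mod_lt _ (by omega)
    have h1 := of_allFrom h.1 hi
    simp only [Bool.and_eq_true] at h1
    have h2' := of_allFrom h1.2 hn
    have h2 : tb (pD ((i % 7 + 1) % 7)) n = tb (pD 1) (tb (pD (i % 7)) n) := beq_eq h2'
    rw [pow_succ', nf_mul, ih hn]
    have h3 : tb (pD (i % 7)) n < 64 := by rw [← nf_permOf (injPD hi) hn]; exact nf_lt hn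
    rw [D₀, nf_permOf (injPD (by omega)) h3, ← h2, Nat.mod_add_mod]

theorem D₀_pow_seven : D₀ ^ 7 = 1 := perm_ext fun n hn => by
  rw [nf_pow hn, nf_one]
  have h := pow_ok
  unfold powOK at h
  simp only [Bool.and_eq_true] at h
  have h2 := of_allFrom h.2.1 hn
  exact beq_eq h2

theorem D₀_ne : D₀ ≠ 1 := by
  intro e
  have h := pow_ok
  unfold powOK at h
  simp only [Bool.and_eq_true, Bool.not_eq_true'] at h
  have h1 := h.2.2.1
  have h3 := nf_pow (i := 1) (n := cycVec) (by decide)
  rw [pow_one, e, nf_one] at h3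
  rw [show tb (pD (1 % 7)) cycVec = tb (pD 1) cycVec from rfl] at h3
  rw [← h3] at h1
  simp at h1

/-! ### Elements twisting the element of order seven -/

/-- The map with `u ↦ y` intertwining `D₀` with its `k`-th power. -/
noncomputable def cand (k y v : ℕ) : ℕ :=
  comb [tb (pD 0) y, tb (pD k) y, tb (pD (Nat.mod (Nat.mul k 2) 7)) y, tb (pD (Nat.mod (Nat.mul k 3) 7)) y,
    tb (pD (Nat.mod (Nat.mul k 4) 7)) y, tb (pD (Nat.mod (Nat.mul k 5) 7)) y] (tb cycCoord v)

noncomputable def coordOK : Bool :=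
  allFrom (fun v => Nat.beq (cand 1 cycVec v) v) 0 64

theorem coord_ok : coordOK = true := by decide +kernel

theorem det_cyc {f : Perm (Fin 64)} (hf : f ∈ orth) {k : ℕ} (hk : k < 7) (h : f * D₀ = D₀ ^ k * f) {v : ℕ}
    (hv : v < 64) : nf f v = cand k (nf f cycVec) v := by
  have hu : cycVec < 64 := by decide
  have hpow : ∀ i, i < 7 → f * D₀ ^ i = D₀ ^ (k * i) * f := fun i _ => by
    induction i with
    | zero => simp
    | succ i ih =>
      rw [pow_succ, ← mul_assoc, ih (by omega), mul_assoc, h, ← mul_assoc, ← pow_add]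
      ring_nf
  have himg : ∀ i, i < 7 → nf f (tb (pD i) cycVec) = tb (pD (k * i % 7)) (nf f cycVec) := fun i hi => by
    have e : tb (pD i) cycVec = nf (D₀ ^ i) cycVec := by rw [nf_pow hu, Nat.mod_eq_of_lt hi]
    rw [e, ← nf_mul, hpow i hi, nf_mul, nf_pow (nf_lt hu)]
  have h0 := coord_ok
  unfold coordOK at h0
  have h1' := of_allFrom h0 hv
  have h1 : cand 1 cycVec v = v := beq_eq h1'
  conv_lhs => rw [← h1]
  have hl : ∀ i, i < 7 → tb (pD i) cycVec < 64 := fun i hi => by
    rw [← nf_permOf (injPD hi) hu]; exact nf_lt hu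
  have he : cand 1 cycVec v = comb [tb (pD 0) cycVec, tb (pD 1) cycVec, tb (pD 2) cycVec, tb (pD 3) cycVec,
      tb (pD 4) cycVec, tb (pD 5) cycVec] (tb cycCoord v) := rfl
  rw [he, (comb_map hf _ (by
    intro a ha
    simp only [List.mem_cons, List.not_mem_nil, or_false] at ha
    rcases ha with rfl | rfl | rfl | rfl | rfl | rfl <;> exact hl _ (by omega)) _).2]
  unfold cand
  simp only [List.map_cons, List.map_nil, himg 0 (by omega), himg 1 (by omega), himg 2 (by omega),
    himg 3 (by omega), himg 4 (by omega), himg 5 (by omega)]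
  rw [show k * 0 % 7 = 0 by omega, show k * 1 % 7 = k by omega]
  rfl

/-- A candidate is not an isometry. -/
noncomputable def badOK (c : ℕ → ℕ) : Bool :=
  !allFrom (fun v => Nat.beq (wq (c v)) (wq v) && (Nat.beq v 0 || !Nat.beq (c v) 0)) 0 64

theorem not_bad {f : Perm (Fin 64)} (hf : f ∈ orth) {c : ℕ → ℕ} (hc : ∀ v, v < 64 → nf f v = c v) :
    badOK c = false := by
  have key : allFrom (fun v => Nat.beq (wq (c v)) (wq v) && (Nat.beq v 0 || !Nat.beq (c v) 0)) 0 64 = true := by
    apply allFrom_intro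
    intro v _ hv
    rw [← hc v (by omega)]
    simp only [Bool.and_eq_true, Bool.or_eq_true, Bool.not_eq_true']
    refine ⟨by rw [hf.2 v (by omega)]; exact Nat.beq_refl _, ?_⟩
    by_cases h0 : v = 0
    · exact Or.inl (by subst h0; rfl)
    · refine Or.inr (Bool.eq_false_iff.2 fun e => h0 ?_)
      exact nf_inj (f := f) (by omega) (by omega) ((beq_eq e).trans (nf_zero hf).symm)
  unfold badOK
  rw [key]
  rfl

noncomputable def centOK : Bool :=
  allFrom (fun y => badOK (cand 1 y) ||
    !allFrom (fun i => !allFrom (fun v => Nat.beq (cand 1 y v) (tb (pD i) v)) 0 64) 0 7) 0 64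

theorem cent_ok : centOK = true := by decide +kernel

theorem centralizer_D₀ {f : Perm (Fin 64)} (hf : f ∈ orth) (h : Commute f D₀) :
    ∃ i, i < 7 ∧ f = D₀ ^ i := by
  have hd : ∀ v, v < 64 → nf f v = cand 1 (nf f cycVec) v := fun v hv =>
    det_cyc hf (by omega) (by rw [pow_one]; exact h.eq) hv
  have h0 := cent_ok
  unfold centOK at h0
  have h1 := of_allFrom h0 (nf_lt (f := f) (show cycVec < 64 by decide))
  simp only [Bool.or_eq_true, Bool.not_eq_true'] at h1
  rcases h1 with h1 | h1
  · rw [not_bad hf hd] at h1; exact absurd h1 Bool.false_ne_true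
  obtain ⟨i, hi, h2⟩ := exists_of_allFrom_false h1
  simp only [Bool.not_eq_false'] at h2
  exact ⟨i, hi, perm_ext fun v hv => by
    rw [hd v hv, nf_pow hv, Nat.mod_eq_of_lt hi]
    have h3 := of_allFrom h2 hv
    exact beq_eq h3⟩

end CfsgLib.Spor.HeldRecog.Norm
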