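/-
The normal form of three generators of a subgroup L₃(2) of the isometries.
-/
import Cfsg.Agent.Lib.Spor.HeldRecog.Cent.W
import Mathlib.GroupTheory.PGroup
import Mathlib.GroupTheory.Nilpotent
import Mathlib.FieldTheory.Finite.Basic
import Mathlib.Tactic
import Mathlib.GroupTheory.Perm.Cycle.Basic

set_option autoImplicit false
set_option maxRecDepth 100000

namespace CfsgLib.Spor.HeldRecog.Norm

open CfsgLib.Spor.TC Equiv

/-- The element of order seven in the group of isometries. -/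
noncomputable def dO : ↥orth := ⟨D₀, D₀_mem⟩

theorem orderOf_dO : orderOf dO = 7 := by
  haveI := Fact.mk (show Nat.Prime 7 by norm_num)
  exact orderOf_eq_prime (Subtype.ext D₀_pow_seven) fun e => D₀_ne (congrArg Subtype.val e)

theorem zpowers_dO_centralizer {g : ↥orth} (h : Commute g dO) : g ∈ Subgroup.zpowers dO := by
  obtain ⟨i, _, e⟩ := centralizer_D₀ g.2 (congrArg Subtype.val h : (g : Perm (Fin 64)) * D₀ = D₀ * g)
  exact ⟨(i : ℤ), Subtype.ext (by simp only [zpow_natCast, SubgroupClass.coe_pow]; exact e.symm)⟩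

/-- Every element of order seven is conjugate to the normalised one. -/
theorem exists_conj_seven {D : Perm (Fin 64)} (hD : D ∈ orth) (h7 : D ^ 7 = 1) (hne : D ≠ 1) :
    ∃ g ∈ orth, ∃ j, 1 ≤ j ∧ j < 7 ∧ g * D * g⁻¹ = D₀ ^ j := by
  haveI := Fact.mk (show Nat.Prime 7 by norm_num)
  let d : ↥orth := ⟨D, hD⟩
  have hd : d ^ 7 = 1 := Subtype.ext h7
  let P := Subgroup.zpowers dO
  have hP : Nat.card P = 7 := by rw [Nat.card_zpowers, orderOf_dO]
  obtain ⟨S, hS⟩ := (IsPGroup.of_card (p := 7) (n := 1) (by rw [hP, pow_one])).exists_le_sylow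
  have hSP : (S : Subgroup ↥orth) = P := by
    refine (eq_of_le_of_not_lt hS fun hlt => ?_).symm
    haveI : Group.IsNilpotent ↥(S : Subgroup ↥orth) := S.isPGroup'.isNilpotent
    have hlt' : P.subgroupOf (S : Subgroup ↥orth) < ⊤ := by
      rw [lt_top_iff_ne_top]
      intro e
      exact hlt.2 (Subgroup.subgroupOf_eq_top.1 e)
    have hn := Group.normalizerCondition_of_isNilpotent _ hlt'
    obtain ⟨x, hxn, hxP⟩ := SetLike.exists_of_lt hn
    -- some power of `x` centralises `P`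
    have hdmem : (⟨dO, hS (Subgroup.mem_zpowers _)⟩ : ↥(S : Subgroup ↥orth)) ∈ P.subgroupOf (S : Subgroup ↥orth) :=
      Subgroup.mem_zpowers dO
    have hc := (Subgroup.mem_normalizer_iff.1 hxn _).1 hdmem
    obtain ⟨k, hk⟩ := Subgroup.mem_subgroupOf.1 hc
    have hk' : (x : ↥orth) * dO * (x : ↥orth)⁻¹ = dO ^ k := hk.symm
    have hiter : ∀ n : ℕ, (x : ↥orth) ^ n * dO * ((x : ↥orth) ^ n)⁻¹ = dO ^ (k ^ n) := by
      intro n
      induction n with
      | zero => simp
      | succ n ih =>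
        calc (x : ↥orth) ^ (n + 1) * dO * ((x : ↥orth) ^ (n + 1))⁻¹
            = (x : ↥orth) * ((x : ↥orth) ^ n * dO * ((x : ↥orth) ^ n)⁻¹) * (x : ↥orth)⁻¹ := by
              rw [pow_succ']; group
          _ = ((x : ↥orth) * dO * (x : ↥orth)⁻¹) ^ (k ^ n) := by rw [ih, conj_zpow]
          _ = dO ^ (k ^ (n + 1)) := by rw [hk', ← zpow_mul, pow_succ']
    obtain ⟨m, hm⟩ := IsPGroup.iff_orderOf.1 S.isPGroup' x
    have hxm : (x : ↥orth) ^ (7 ^ m) = 1 := by
      have := pow_orderOf_eq_one x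
      rw [hm] at this
      exact congrArg Subtype.val this
    have h1 := hiter (7 ^ m)
    rw [hxm, one_mul, inv_one, mul_one] at h1
    have hk7 : (7 : ℤ) ∣ k ^ (7 ^ m) - 1 := by
      have h2 : dO ^ (k ^ (7 ^ m) - 1) = 1 := by rw [zpow_sub, ← h1, zpow_one, mul_inv_cancel]
      have := orderOf_dvd_iff_zpow_eq_one.2 h2
      rwa [orderOf_dO] at this
    have hk1 : (7 : ℤ) ∣ k - 1 := by
      have h3 : (k : ZMod 7) ^ (7 ^ m) = k := by
        clear hk7 h1 hxm hm
        induction m with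
        | zero => rw [pow_zero, pow_one]
        | succ m ih => rw [pow_succ, pow_mul, ih, ZMod.pow_card]
      have h4 : ((k ^ (7 ^ m) - 1 : ℤ) : ZMod 7) = 0 := (ZMod.intCast_zmod_eq_zero_iff_dvd _ 7).2 hk7
      refine (ZMod.intCast_zmod_eq_zero_iff_dvd _ 7).1 ?_
      push_cast at h4 ⊢
      rwa [h3] at h4
    have hcomm : Commute (x : ↥orth) dO := by
      have h2 : dO ^ k = dO := by
        have h5 : dO ^ (k - 1) = 1 := orderOf_dvd_iff_zpow_eq_one.1 (by rw [orderOf_dO]; exact hk1)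
        rw [zpow_sub, zpow_one, mul_inv_eq_one] at h5
        exact h5
      rw [h2, mul_inv_eq_iff_eq_mul] at hk'
      exact hk'
    exact hxP (Subgroup.mem_subgroupOf.2 (zpowers_dO_centralizer hcomm))
  have hdp : IsPGroup 7 (Subgroup.zpowers d) := by
    refine IsPGroup.of_card (n := 1) ?_
    rw [Nat.card_zpowers, pow_one, orderOf_eq_prime hd fun e => hne (congrArg Subtype.val e)]
  obtain ⟨S', hS'⟩ := hdp.exists_le_sylow
  obtain ⟨g, hg⟩ := MulAction.exists_smul_eq ↥orth S' S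
  have hmem : g * d * g⁻¹ ∈ P := by
    rw [← hSP, ← hg]
    exact ⟨d, hS' (Subgroup.mem_zpowers d), by simp [MulAut.conj_apply]⟩
  have hmem' : g * d * g⁻¹ ∈ Submonoid.powers dO := mem_powers_iff_mem_zpowers.2 hmem
  obtain ⟨i, hi⟩ := hmem'
  refine ⟨g, g.2, i % 7, ?_, Nat.mod_lt _ (by norm_num), ?_⟩
  · by_contra hlt
    have h0 : i % 7 = 0 := by omega
    have hi' : dO ^ i = g * d * g⁻¹ := hi
    have h1 : g * d * g⁻¹ = 1 := by
      rw [← hi', ← pow_mod_orderOf, orderOf_dO, h0, pow_zero]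
    exact hne (congrArg Subtype.val (conj_eq_one_iff.1 h1))
  · have hi' : dO ^ i = g * d * g⁻¹ := hi
    have h1 : g * d * g⁻¹ = dO ^ (i % 7) := by
      rw [← hi']
      conv_lhs => rw [← pow_mod_orderOf, orderOf_dO]
    exact congrArg Subtype.val h1

noncomputable def threeOK : Bool :=
  isoOK nThree && allFrom (fun v => Nat.beq (tb nThree (tb (pD 1) v)) (tb (pD 3) (tb nThree v))) 0 64

theorem three_ok : threeOK = true := by decide +kernel

/-- The element of order seven may be taken to be `D₀`. -/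
theorem exists_conj_D₀ {D : Perm (Fin 64)} (hD : D ∈ orth) (h7 : D ^ 7 = 1) (hne : D ≠ 1) :
    ∃ g ∈ orth, g * D * g⁻¹ = D₀ := by
  obtain ⟨g, hg, j, hj1, hj7, hgD⟩ := exists_conj_seven hD h7 hne
  have h := three_ok
  unfold threeOK at h
  simp only [Bool.and_eq_true] at h
  have hinj : injOK nThree = true := by
    have := h.1
    unfold isoOK at this
    simp only [Bool.and_eq_true] at this
    exact this.1
  set n := permOf nThree with hn
  have hnD : n * D₀ * n⁻¹ = D₀ ^ 3 := by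
    rw [mul_inv_eq_iff_eq_mul]
    refine perm_ext fun v hv => ?_
    have h1 := of_allFrom h.2 hv
    have hv1 : tb (pD 1) v < 64 := by rw [← nf_permOf (injPD (by omega)) hv]; exact nf_lt hv
    rw [nf_mul, nf_mul, D₀, nf_permOf (injPD (by omega)) hv, hn, nf_permOf hinj hv1, nf_permOf hinj hv]
    have hv2 : tb nThree v < 64 := by rw [← nf_permOf hinj hv]; exact nf_lt hv
    show _ = nf (D₀ ^ 3) (tb nThree v)
    rw [nf_pow hv2]
    exact beq_eq h1
  have hiter : ∀ (e i : ℕ), n ^ e * D₀ ^ i * (n ^ e)⁻¹ = D₀ ^ (i * 3 ^ e) := by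
    intro e
    induction e with
    | zero => simp
    | succ e ih =>
      intro i
      calc n ^ (e + 1) * D₀ ^ i * (n ^ (e + 1))⁻¹ = n * (n ^ e * D₀ ^ i * (n ^ e)⁻¹) * n⁻¹ := by
            rw [pow_succ']; group
        _ = (n * D₀ * n⁻¹) ^ (i * 3 ^ e) := by rw [ih, conj_pow]
        _ = D₀ ^ (i * 3 ^ (e + 1)) := by rw [hnD, ← pow_mul]; ring_nf
  obtain ⟨e, he⟩ : ∃ e, j * 3 ^ e % 7 = 1 := by
    interval_cases j
    exacts [⟨0, rfl⟩, ⟨4, rfl⟩, ⟨5, rfl⟩, ⟨2, rfl⟩, ⟨1, rfl⟩, ⟨3, rfl⟩]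
  refine ⟨n ^ e * g, mul_mem (pow_mem (hn ▸ permOf_mem h.1) e) hg, ?_⟩
  calc n ^ e * g * D * (n ^ e * g)⁻¹ = n ^ e * (g * D * g⁻¹) * (n ^ e)⁻¹ := by group
    _ = D₀ ^ (j * 3 ^ e) := by rw [hgD, hiter]
    _ = D₀ := by
      rw [← Nat.div_add_mod (j * 3 ^ e) 7, he, pow_add, pow_mul, D₀_pow_seven, one_pow, one_mul, pow_one]

/-- The conjugates of `B₀` by powers of `D₀`. -/
noncomputable def bConj (i v : ℕ) : ℕ := tb (pD i) (tb bZero (tb (pD (Nat.mod (Nat.sub 7 i) 7)) v))

noncomputable def bOK : Bool :=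
  allFrom (fun y => badOK (cand 2 y) ||
    (!allFrom (fun v => Nat.beq (cand 2 y (cand 2 y (cand 2 y v))) v) 0 64 ||
      !allFrom (fun i => !allFrom (fun v => Nat.beq (cand 2 y v) (bConj i v)) 0 64) 0 7)) 0 64

theorem b_ok : bOK = true := by decide +kernel

/-- An element of order three squaring `D₀` is conjugate to `B₀` by a power of `D₀`. -/
theorem exists_conj_B₀ {B : Perm (Fin 64)} (hB : B ∈ orth) (h3 : B ^ 3 = 1) (hrel : B * D₀ * B⁻¹ = D₀ ^ 2) :
    ∃ i, i < 7 ∧ B = D₀ ^ i * B₀ * (D₀ ^ i)⁻¹ := by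
  have hd : ∀ v, v < 64 → nf B v = cand 2 (nf B cycVec) v := fun v hv =>
    det_cyc hB (by omega) (mul_inv_eq_iff_eq_mul.1 hrel) hv
  have h0 := b_ok
  unfold bOK at h0
  have h1 := of_allFrom h0 (nf_lt (f := B) (show cycVec < 64 by decide))
  simp only [Bool.or_eq_true, Bool.not_eq_true'] at h1
  rcases h1 with h1 | h1 | h1
  · rw [not_bad hB hd] at h1; exact absurd h1 Bool.false_ne_true
  · obtain ⟨v, hv, h2⟩ := exists_of_allFrom_false h1
    exfalso
    rw [← hd v hv, ← hd _ (nf_lt hv), ← hd _ (nf_lt (nf_lt hv)), ← nf_mul, ← nf_mul,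
      show B * B * B = 1 from by rw [← h3, pow_succ, pow_two], nf_one] at h2
    simp at h2
  · obtain ⟨i, hi, h2⟩ := exists_of_allFrom_false h1
    simp only [Bool.not_eq_false'] at h2
    refine ⟨i, hi, perm_ext fun v hv => ?_⟩
    have hinj : injOK bZero = true := by
      have h := pow_ok
      unfold powOK isoOK at h
      simp only [Bool.and_eq_true] at h
      exact h.2.2.2.1
    have hi' : (D₀ ^ i)⁻¹ = D₀ ^ (7 - i) := by
      refine inv_eq_of_mul_eq_one_right ?_
      rw [← pow_add, show i + (7 - i) = 7 by omega, D₀_pow_seven]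
    have h3' := of_allFrom h2 hv
    have l1 : tb (pD ((7 - i) % 7)) v < 64 := by rw [← nf_pow hv]; exact nf_lt hv
    have l2 : tb bZero (tb (pD ((7 - i) % 7)) v) < 64 := by rw [← nf_permOf hinj l1]; exact nf_lt l1
    rw [hd v hv, hi', nf_mul, nf_mul, nf_pow hv, B₀, nf_permOf hinj l1, nf_pow l2, Nat.mod_eq_of_lt hi]
    exact beq_eq h3'

/-! ### The involution -/

/-- The map with given images of the two seeds, reversing `B₀`. -/
noncomputable def tcand (x y v : ℕ) : ℕ :=
  comb [x, tb bZero (tb bZero x), tb bZero x, y, tb bZero (tb bZero y), tb bZero y] (tb seedCoord v)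

/-- `o` repetitions of `T D₀^k` fix everything. -/
noncomputable def ordOK (c : ℕ → ℕ) (k o : ℕ) : Bool :=
  allFrom (fun v => Nat.beq (Nat.rec (motive := fun _ => ℕ) v (fun _ w => c (tb (pD k) w)) o) v) 0 64

/-- The solution. -/
noncomputable def solAt (j : ℕ) : ℕ := (sols.getD j (0, 0, false, 0)).1

noncomputable def tOK : Bool :=
  allFrom (fun x => allFrom (fun y =>
    !Nat.beq (wq x) (wq seedX) || (!Nat.beq (wq y) (wq seedY) ||
      (badOK (tcand x y) || (!allFrom (fun v => Nat.beq (tcand x y (tcand x y v)) v) 0 64 ||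
        (!ordOK (tcand x y) 1 4 || (!ordOK (tcand x y) 2 3 || (!ordOK (tcand x y) 3 7 ||
          (!allFrom (fun j => !allFrom (fun v => Nat.beq (tcand x y v) (tb (solAt j) v)) 0 64) 0 3)))))))) 0 64) 0 64

theorem t_ok : tOK = true := by decide +kernel

noncomputable def seedOK : Bool :=
  allFrom (fun v => Nat.beq (comb [seedX, tb bZero seedX, tb bZero (tb bZero seedX),
    seedY, tb bZero seedY, tb bZero (tb bZero seedY)] (tb seedCoord v)) v) 0 64 &&
  (Nat.blt seedX 64 && Nat.blt seedY 64)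

theorem seed_ok : seedOK = true := by decide +kernel

theorem b₀_inj : injOK bZero = true := by
  have h := pow_ok
  unfold powOK isoOK at h
  simp only [Bool.and_eq_true] at h
  exact h.2.2.2.1

noncomputable def cubeOK : Bool :=
  allFrom (fun u => Nat.beq (tb bZero (tb bZero (tb bZero u))) u) 0 64

theorem cube_ok : cubeOK = true := by decide +kernel

theorem det_seed {T : Perm (Fin 64)} (hT : T ∈ orth) (h : T * B₀ = B₀ * B₀ * T) {v : ℕ} (hv : v < 64) :
    nf T v = tcand (nf T seedX) (nf T seedY) v := by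
  have hs := seed_ok
  unfold seedOK at hs
  simp only [Bool.and_eq_true] at hs
  have hx : seedX < 64 := Nat.le_of_ble_eq_true hs.2.1
  have hy : seedY < 64 := Nat.le_of_ble_eq_true hs.2.2
  have hb : ∀ {w : ℕ}, w < 64 → nf B₀ w = tb bZero w := fun hw => nf_permOf b₀_inj hw
  have hbl : ∀ {w : ℕ}, w < 64 → tb bZero w < 64 := fun hw => by rw [← hb hw]; exact nf_lt hw
  have h1 : ∀ {w : ℕ}, w < 64 → nf T (tb bZero w) = tb bZero (tb bZero (nf T w)) := fun {w} hw => by
    rw [← hb hw, ← nf_mul, h, nf_mul, nf_mul, hb (nf_lt hw), hb (hbl (nf_lt hw))]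
  have h2 : ∀ {w : ℕ}, w < 64 → nf T (tb bZero (tb bZero w)) = tb bZero (nf T w) := fun {w} hw => by
    rw [h1 (hbl hw), h1 hw]
    have e : ∀ {u : ℕ}, u < 64 → tb bZero (tb bZero (tb bZero u)) = u := by
      intro u hu
      have h := cube_ok
      unfold cubeOK at h
      have h' := of_allFrom h hu
      exact beq_eq h'
    rw [e (nf_lt hw)]
  have h0 := of_allFrom hs.1 hv
  conv_lhs => rw [← beq_eq h0]
  rw [(comb_map hT _ (by
    intro a ha
    simp only [List.mem_cons, List.not_mem_nil, or_false] at ha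
    rcases ha with rfl | rfl | rfl | rfl | rfl | rfl
    exacts [hx, hbl hx, hbl (hbl hx), hy, hbl hy, hbl (hbl hy)]) _).2]
  simp only [List.map_cons, List.map_nil, h1 hx, h1 hy, h2 hx, h2 hy]
  rfl

/-- An involution inverting `B₀` with the further relations is one of three. -/
theorem exists_sol {T : Perm (Fin 64)} (hT : T ∈ orth) (h2 : T * T = 1) (hb : T * B₀ = B₀ * B₀ * T)
    (o1 : (T * D₀) ^ 4 = 1) (o2 : (T * D₀ ^ 2) ^ 3 = 1) (o3 : (T * D₀ ^ 3) ^ 7 = 1) :
    ∃ j, j < 3 ∧ ∀ v, v < 64 → nf T v = tb (solAt j) v := by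
  have hs := seed_ok
  unfold seedOK at hs
  simp only [Bool.and_eq_true] at hs
  have hx : seedX < 64 := Nat.le_of_ble_eq_true hs.2.1
  have hy : seedY < 64 := Nat.le_of_ble_eq_true hs.2.2
  set c := tcand (nf T seedX) (nf T seedY) with hc
  have hd : ∀ v, v < 64 → nf T v = c v := fun v hv => det_seed hT hb hv
  have hord : ∀ k o, k < 7 → (T * D₀ ^ k) ^ o = 1 → ordOK c k o = true := by
    intro k o hk ho
    apply allFrom_intro
    intro v _ hv
    have hiter : ∀ o : ℕ, nf ((T * D₀ ^ k) ^ o) v =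
        Nat.rec (motive := fun _ => ℕ) v (fun _ w => c (tb (pD k) w)) o := by
      intro o
      induction o with
      | zero => rw [pow_zero, nf_one]; rfl
      | succ o ih =>
        have hl : nf ((T * D₀ ^ k) ^ o) v < 64 := nf_lt (by omega)
        rw [pow_succ', nf_mul, nf_mul, hd _ (nf_lt hl), nf_pow hl, Nat.mod_eq_of_lt hk]
        show c (tb (pD k) (nf ((T * D₀ ^ k) ^ o) v)) = c (tb (pD k) _)
        rw [ih]
    rw [← hiter, ho, nf_one]
    exact Nat.beq_refl v
  have h0 := t_ok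
  unfold tOK at h0
  have h1 := of_allFrom h0 (nf_lt (f := T) hx)
  have h3 := of_allFrom h1 (nf_lt (f := T) hy)
  rw [hT.2 _ hx, hT.2 _ hy, Nat.beq_refl, Nat.beq_refl, ← hc, not_bad hT hd, hord 1 4 (by omega) (by rwa [pow_one]),
    hord 2 3 (by omega) o2, hord 3 7 (by omega) o3] at h3
  simp only [Bool.not_true, Bool.false_or, Bool.or_eq_true, Bool.not_eq_true'] at h3
  rcases h3 with h3 | h3
  · obtain ⟨v, hv, h4⟩ := exists_of_allFrom_false h3
    rw [← hd v hv, ← hd _ (nf_lt hv), ← nf_mul, h2, nf_one] at h4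
    simp at h4
  · obtain ⟨j, hj, h4⟩ := exists_of_allFrom_false h3
    simp only [Bool.not_eq_false'] at h4
    refine ⟨j, hj, fun v hv => ?_⟩
    rw [hd v hv]
    have h5 := of_allFrom h4 hv
    exact beq_eq h5

end CfsgLib.Spor.HeldRecog.Norm
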