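/-
A pair of words in three normalised generators is conjugate to the generators of a candidate model.
-/
import Cfsg.Agent.Lib.Spor.HeldRecog.Cent.Norm

set_option autoImplicit false
set_option maxRecDepth 100000

namespace CfsgLib.Spor.HeldRecog.Norm

open CfsgLib.Spor.TC Equiv

/-- The action of a model on the quotient of dimension six. -/
noncomputable def wAct (T : Tab) (a v : ℕ) : ℕ := Nat.land (T.act a v) 63

/-- The table of the solution. -/
noncomputable def tabAt (j : ℕ) : Tab := Bool.rec splitTab uniTab (sols.getD j (0, 0, false, 0)).2.2.1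

/-- The words of the solution. -/
noncomputable def wordsAt (j : ℕ) : List ℕ × List ℕ := wordPairs.getD (sols.getD j (0, 0, false, 0)).2.1 ([], [])

/-- The conjugating isometry of the solution. -/
noncomputable def confAt (j : ℕ) : ℕ := (sols.getD j (0, 0, false, 0)).2.2.2

/-- A word applied. -/
noncomputable def wapp (t : ℕ) (w : List ℕ) (v : ℕ) : ℕ :=
  List.rec (motive := fun _ => ℕ) v
    (fun a _ ih => Bool.rec (Bool.rec (tb t ih) (tb bZero ih) (Nat.beq a 1)) (tb (pD 1) ih) (Nat.beq a 0)) w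

noncomputable def pairOK : Bool :=
  allFrom (fun j => isoOK (confAt j) && (injOK (solAt j) &&
    allFrom (fun v => Nat.beq (tb (confAt j) (wapp (solAt j) (wordsAt j).1 v))
        (wAct (tabAt j) (tabAt j).ga (tb (confAt j) v)) &&
      Nat.beq (tb (confAt j) (wapp (solAt j) (wordsAt j).2 v))
        (wAct (tabAt j) (tabAt j).gb (tb (confAt j) v))) 0 64)) 0 3

theorem pair_ok : pairOK = true := by decide +kernel

/-- A word in three permutations. -/
def ev3 (D B T : Perm (Fin 64)) (w : List ℕ) : Perm (Fin 64) :=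
  (w.map fun a => if a = 0 then D else if a = 1 then B else T).prod

theorem conj_ev3 (g D B T : Perm (Fin 64)) : ∀ w : List ℕ,
    g * ev3 D B T w * g⁻¹ = ev3 (g * D * g⁻¹) (g * B * g⁻¹) (g * T * g⁻¹) w := by
  intro w
  induction w with
  | nil => simp [ev3]
  | cons a w ih =>
    simp only [ev3, List.map_cons, List.prod_cons] at ih ⊢
    rw [← ih]
    split_ifs <;> group

theorem nf_ev3 (T : Perm (Fin 64)) {t : ℕ} (ht : ∀ v, v < 64 → nf T v = tb t v) :
    ∀ (w : List ℕ) {v : ℕ}, v < 64 → nf (ev3 D₀ B₀ T w) v = wapp t w v := by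
  intro w
  induction w with
  | nil => intro v _; simp [ev3, nf_one, wapp]
  | cons a w ih =>
    intro v hv
    have hl : nf (ev3 D₀ B₀ T w) v < 64 := nf_lt hv
    show nf ((if a = 0 then D₀ else if a = 1 then B₀ else T) * ev3 D₀ B₀ T w) v =
      Bool.rec (Bool.rec (tb t (wapp t w v)) (tb bZero (wapp t w v)) (Nat.beq a 1)) (tb (pD 1) (wapp t w v)) (Nat.beq a 0)
    rw [nf_mul, ← ih hv]
    by_cases h0 : a = 0
    · subst h0
      rw [if_pos rfl]
      exact nf_permOf (injPD (show 1 < 7 by omega)) hl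
    by_cases h1 : a = 1
    · subst h1
      rw [if_neg (by omega), if_pos rfl]
      exact nf_permOf b₀_inj hl
    rw [if_neg h0, if_neg h1, show Nat.beq a 0 = false from Bool.eq_false_iff.2 fun e => h0 (beq_eq e),
      show Nat.beq a 1 = false from Bool.eq_false_iff.2 fun e => h1 (beq_eq e)]
    exact ht _ hl

/-- The normal form: three generators with the relations give, up to conjugacy, the generators of a model. -/
theorem normal_form {D B T : Perm (Fin 64)} (hD : D ∈ orth) (hB : B ∈ orth) (hT : T ∈ orth) (hne : D ≠ 1)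
    (h7 : D ^ 7 = 1) (h3 : B ^ 3 = 1) (hbd : B * D * B⁻¹ = D ^ 2) (h2 : T * T = 1) (htb : T * B = B * B * T)
    (o1 : (T * D) ^ 4 = 1) (o2 : (T * D ^ 2) ^ 3 = 1) (o3 : (T * D ^ 3) ^ 7 = 1) :
    ∃ j, j < 3 ∧ ∃ g ∈ orth,
      (∀ v, v < 64 → nf (g * ev3 D B T (wordsAt j).1 * g⁻¹) v = wAct (tabAt j) (tabAt j).ga v) ∧
      (∀ v, v < 64 → nf (g * ev3 D B T (wordsAt j).2 * g⁻¹) v = wAct (tabAt j) (tabAt j).gb v) := by
  obtain ⟨g₁, hg₁, hgD⟩ := exists_conj_D₀ hD h7 hne
  obtain ⟨i, _, hi⟩ := exists_conj_B₀ (B := g₁ * B * g₁⁻¹) (mul_mem (mul_mem hg₁ hB) (inv_mem hg₁))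
    (by rw [conj_pow, h3]; group) (by
      rw [← hgD, conj_pow, ← hbd]; group)
  set g := (D₀ ^ i)⁻¹ * g₁ with hg
  have hgo : g ∈ orth := mul_mem (inv_mem (pow_mem D₀_mem i)) hg₁
  have eD : g * D * g⁻¹ = D₀ := by
    rw [hg, show (D₀ ^ i)⁻¹ * g₁ * D * ((D₀ ^ i)⁻¹ * g₁)⁻¹ = (D₀ ^ i)⁻¹ * (g₁ * D * g₁⁻¹) * D₀ ^ i by group, hgD]
    group
  have eB : g * B * g⁻¹ = B₀ := by
    rw [hg, show (D₀ ^ i)⁻¹ * g₁ * B * ((D₀ ^ i)⁻¹ * g₁)⁻¹ = (D₀ ^ i)⁻¹ * (g₁ * B * g₁⁻¹) * D₀ ^ i by group, hi]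
    group
  obtain ⟨j, hj, hTj⟩ := exists_sol (T := g * T * g⁻¹) (mul_mem (mul_mem hgo hT) (inv_mem hgo))
    (by rw [show g * T * g⁻¹ * (g * T * g⁻¹) = g * (T * T) * g⁻¹ by group, h2]; group)
    (by rw [← eB, show g * T * g⁻¹ * (g * B * g⁻¹) = g * (T * B) * g⁻¹ by group, htb]; group)
    (by rw [← eD, show g * T * g⁻¹ * (g * D * g⁻¹) = g * (T * D) * g⁻¹ by group, conj_pow, o1]; group)
    (by rw [← eD, conj_pow, show g * T * g⁻¹ * (g * D ^ 2 * g⁻¹) = g * (T * D ^ 2) * g⁻¹ by group, conj_pow, o2]; group)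
    (by rw [← eD, conj_pow, show g * T * g⁻¹ * (g * D ^ 3 * g⁻¹) = g * (T * D ^ 3) * g⁻¹ by group, conj_pow, o3]; group)
  have hp := pair_ok
  unfold pairOK at hp
  have hp' := of_allFrom hp hj
  simp only [Bool.and_eq_true] at hp'
  obtain ⟨hc, -, hv0⟩ := hp'
  have hci : injOK (confAt j) = true := by
    have := hc
    unfold isoOK at this
    simp only [Bool.and_eq_true] at this
    exact this.1
  set m := permOf (confAt j) with hm
  have key : ∀ (w : List ℕ) (a : ℕ), (∀ v, v < 64 →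
      tb (confAt j) (wapp (solAt j) w v) = wAct (tabAt j) a (tb (confAt j) v)) →
      ∀ v, v < 64 → nf (m * g * ev3 D B T w * (m * g)⁻¹) v = wAct (tabAt j) a v := by
    intro w a hw v hv
    rw [show m * g * ev3 D B T w * (m * g)⁻¹ = m * (g * ev3 D B T w * g⁻¹) * m⁻¹ by group, conj_ev3, eD, eB]
    set u := nf m⁻¹ v with hu
    have hul : u < 64 := nf_lt hv
    have hmu : nf m u = v := by rw [hu, ← nf_mul, mul_inv_cancel, nf_one]
    rw [nf_mul, nf_mul, ← hu, nf_ev3 _ hTj w hul]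
    have hwl : wapp (solAt j) w u < 64 := by rw [← nf_ev3 _ hTj w hul]; exact nf_lt hul
    rw [hm, nf_permOf hci hwl, hw u hul, ← nf_permOf hci hul, ← hm, hmu]
  refine ⟨j, hj, m * g, mul_mem (permOf_mem hc) hgo, key _ _ fun v hv => ?_, key _ _ fun v hv => ?_⟩
  · have h := of_allFrom hv0 hv
    simp only [Bool.and_eq_true] at h
    exact beq_eq h.1
  · have h := of_allFrom hv0 hv
    simp only [Bool.and_eq_true] at h
    exact beq_eq h.2

end CfsgLib.Spor.HeldRecog.Norm
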