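/-
Two groups of order 21504 generated in the same way are isomorphic.
-/
import Cfsg.Agent.Lib.Spor.HeldRecog.LRel.All
import Cfsg.Agent.Lib.PGroup.ExtraspecialClassify
import Mathlib.Algebra.Group.Subgroup.Pointwise
import Mathlib.GroupTheory.QuotientGroup.Basic

set_option autoImplicit false

open scoped commutatorElement

namespace CfsgLib.Spor.HeldRecog

open CfsgLib.Spor.TC

universe u v

variable {G : Type u} [Group G]

/-- The element with the given coordinates. -/
def qword {M : Type u} [Group M] (e : ℕ → M) (z : M) (q : ℕ) : M :=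
  (((List.range 6).map fun i => if q.testBit i then e i else 1).prod) * if q.testBit 6 then z else 1

/-- A central extension with the relations of `L₃(2)` has order at most 168. -/
theorem card_le_of_lrels {H : Type*} [Group H] (a b : H) (hgen : Subgroup.closure {a, b} = ⊤)
    (ha : a * a = 1) (hb : b ^ 3 = 1) (hab : (a * b) ^ 7 = 1)
    (hc : ∀ x, Commute ((a * b⁻¹ * a * b) ^ 4) x) : Nat.card H ≠ 0 ∧ Nat.card H ≤ 168 := by
  have hai : a⁻¹ = a := inv_eq_of_mul_eq_one_right ha
  let g : ℕ → H := fun x => if x = 0 then a else if x = 1 then a⁻¹ else if x = 2 then b else if x = 3 then b⁻¹ else 1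
  have e0 : g 0 = a := rfl
  have e1 : g 1 = a⁻¹ := rfl
  have e2 : g 2 = b := rfl
  have e3 : g 3 = b⁻¹ := rfl
  have hk : LRel.cert.k = 4 := rfl
  have hinv : ∀ x, g (invLetter LRel.cert.k x) = (g x)⁻¹ := by
    intro x
    rw [hk]
    rcases x with _ | _ | _ | _ | x
    · rfl
    · exact (inv_inv a).symm
    · rfl
    · exact (inv_inv b).symm
    · have h2 : invLetter 4 (x + 4) = x + 4 := by
        have h1 : Nat.ble 4 (x + 4) = true := Nat.ble_eq_true_of_le (by omega)
        simp [invLetter, h1]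
      rw [h2]
      simp [g]
  have hw : ev g [1, 3, 0, 2, 1, 3, 0, 2, 1, 3, 0, 2, 1, 3, 0, 2] = (a * b⁻¹ * a * b) ^ 4 := by
    simp [ev, e0, e1, e2, e3, hai, pow_succ, mul_assoc]
  have hw' : ev g [3, 1, 2, 0, 3, 1, 2, 0, 3, 1, 2, 0, 3, 1, 2, 0] = ((a * b⁻¹ * a * b) ^ 4)⁻¹ := by
    simp [ev, e0, e1, e2, e3, hai, pow_succ, mul_assoc, mul_inv_rev]
  have hev : ∀ r ∈ LRel.cert.rels, ev g r = 1 := by
    intro r hr
    have hr' : r ∈ LRel.rels := hr
    simp only [LRel.rels, List.mem_cons, List.not_mem_nil, or_false] at hr'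
    rcases hr' with rfl | rfl | rfl | rfl | rfl
    · simpa [ev, e0] using ha
    · simpa [ev, e2, pow_succ, mul_assoc] using hb
    · simpa [ev, e0, e2, pow_succ, mul_assoc] using hab
    · rw [show ([1, 3, 0, 2, 1, 3, 0, 2, 1, 3, 0, 2, 1, 3, 0, 2, 0, 3, 1, 2, 0, 3, 1, 2, 0, 3, 1, 2, 0, 3, 1, 2, 0,
        1] : List ℕ) = [1, 3, 0, 2, 1, 3, 0, 2, 1, 3, 0, 2, 1, 3, 0, 2] ++ ([0] ++
          ([3, 1, 2, 0, 3, 1, 2, 0, 3, 1, 2, 0, 3, 1, 2, 0] ++ [1])) from rfl,
        ev_append, ev_append, ev_append, hw, hw']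
      simp only [ev, List.map_cons, List.map_nil, List.prod_cons, List.prod_nil, mul_one, e0, e1]
      rw [← mul_assoc, (hc a).eq]
      group
    · rw [show ([1, 3, 0, 2, 1, 3, 0, 2, 1, 3, 0, 2, 1, 3, 0, 2, 2, 3, 1, 2, 0, 3, 1, 2, 0, 3, 1, 2, 0, 3, 1, 2, 0,
        3] : List ℕ) = [1, 3, 0, 2, 1, 3, 0, 2, 1, 3, 0, 2, 1, 3, 0, 2] ++ ([2] ++
          ([3, 1, 2, 0, 3, 1, 2, 0, 3, 1, 2, 0, 3, 1, 2, 0] ++ [3])) from rfl,
        ev_append, ev_append, ev_append, hw, hw']
      simp only [ev, List.map_cons, List.map_nil, List.prod_cons, List.prod_nil, mul_one, e2, e3]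
      rw [← mul_assoc, (hc b).eq]
      group
  have hgen' : Subgroup.closure (g '' Set.Iio LRel.cert.k) = ⊤ := by
    rw [hk, eq_top_iff, ← hgen, Subgroup.closure_le]
    intro y hy
    rcases hy with rfl | rfl
    · exact Subgroup.subset_closure ⟨0, show (0 : ℕ) < 4 by omega, rfl⟩
    · exact Subgroup.subset_closure ⟨2, show (2 : ℕ) < 4 by omega, rfl⟩
  have h := Cert.index_le_signed (C := LRel.cert) LRel.steps_ok LRel.rows_ok (by decide +kernel)
    (show (0 : ℕ) < 168 by omega) g hinv (by rw [hk]; rfl)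
    (fun x hx => by
      rw [hk] at hx ⊢
      rcases x with _ | _ | _ | _ | x
      all_goals first | omega | decide)
    hgen' hev ⊥ (fun r hr => absurd hr List.not_mem_nil)
  rwa [Subgroup.index_bot] at h

/-- Generators of a group of order 21504 with a given kernel part: six involutions and a centre generating an
extraspecial group, two further generators acting on it by given words, with the relations of `L₃(2)` up to the
centre. -/
structure Frame (pe : ℕ → ℕ → Bool) (pa pb : ℕ → ℕ) (pz : Bool) (M : Type u) [Group M] where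
  e : ℕ → M
  z : M
  a : M
  b : M
  sq : ∀ i, i < 6 → e i * e i = 1
  zsq : z * z = 1
  central : ∀ x, Commute z x
  comm : ∀ i j, i < 6 → j < 6 → e i * e j = (if pe i j then z else 1) * (e j * e i)
  actA : ∀ i, i < 6 → a * e i * a⁻¹ = qword e z (pa i)
  actB : ∀ i, i < 6 → b * e i * b⁻¹ = qword e z (pb i)
  asq : a * a = if pz then z else 1
  bcube : b ^ 3 = 1
  abseven : (a * b) ^ 7 = 1
  comfour : (a * b⁻¹ * a * b) ^ 4 = 1 ∨ (a * b⁻¹ * a * b) ^ 4 = z
  gen : Subgroup.closure (e '' Set.Iio 6 ∪ {z, a, b}) = ⊤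

/-- A subgroup generated by six commuting involutions has order at most 64. -/
theorem card_le_of_comm_invols {H : Type*} [Group H] (x : ℕ → H) (hsq : ∀ i, i < 6 → x i * x i = 1)
    (hc : ∀ i j, i < 6 → j < 6 → Commute (x i) (x j)) : ∀ n, n ≤ 6 →
    ∃ L : List H, L.length = 2 ^ n ∧ (∀ y ∈ Subgroup.closure (x '' Set.Iio n), y ∈ L) := by
  intro n hn
  induction n with
  | zero =>
    refine ⟨[1], rfl, fun y hy => ?_⟩
    simpa [show Set.Iio (0 : ℕ) = ∅ by ext; simp] using hy
  | succ n ih =>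
    obtain ⟨L, hL, hmem⟩ := ih (by omega)
    refine ⟨L ++ L.map (· * x n), by rw [List.length_append, List.length_map, hL, pow_succ]; omega, fun y hy => ?_⟩
    have hcom : ∀ z ∈ Subgroup.closure (x '' Set.Iio n), Commute (x n) z := by
      intro z hz
      induction hz using Subgroup.closure_induction with
      | mem z hz => obtain ⟨i, hi, rfl⟩ := hz; exact hc _ _ (by omega) (lt_trans hi (by omega))
      | one => exact Commute.one_right _
      | mul u v _ _ hu hv => exact hu.mul_right hv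
      | inv u _ hu => exact hu.inv_right
    have key : ∃ z ∈ Subgroup.closure (x '' Set.Iio n), y = z ∨ y = z * x n := by
      induction hy using Subgroup.closure_induction with
      | mem z hz =>
        obtain ⟨i, hi, rfl⟩ := hz
        by_cases hin : i < n
        · exact ⟨_, Subgroup.subset_closure ⟨i, hin, rfl⟩, Or.inl rfl⟩
        · have hi' : i < n + 1 := hi
          obtain rfl : i = n := by omega
          exact ⟨1, one_mem _, Or.inr (one_mul _).symm⟩
      | one => exact ⟨1, one_mem _, Or.inl rfl⟩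
      | mul u v _ _ hu hv =>
        obtain ⟨a, ha, hu⟩ := hu
        obtain ⟨b, hb, hv⟩ := hv
        refine ⟨a * b, mul_mem ha hb, ?_⟩
        rcases hu with rfl | rfl <;> rcases hv with rfl | rfl
        · exact Or.inl rfl
        · exact Or.inr (mul_assoc _ _ _).symm
        · exact Or.inr (by rw [mul_assoc, (hcom _ hb).eq, ← mul_assoc])
        · refine Or.inl ?_
          calc a * x n * (b * x n) = a * (x n * b) * x n := by simp only [mul_assoc]
            _ = a * b * (x n * x n) := by rw [(hcom _ hb).eq]; simp only [mul_assoc]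
            _ = a * b := by rw [hsq n (by omega), mul_one]
      | inv u _ hu =>
        obtain ⟨a, ha, hu⟩ := hu
        have hxi : (x n)⁻¹ = x n := inv_eq_of_mul_eq_one_right (hsq n (by omega))
        rcases hu with rfl | rfl
        · exact ⟨u⁻¹, inv_mem ha, Or.inl rfl⟩
        · exact ⟨a⁻¹, inv_mem ha, Or.inr (by rw [mul_inv_rev, hxi, (hcom _ (inv_mem ha)).eq])⟩
    obtain ⟨z, hz, rfl | rfl⟩ := key
    · exact List.mem_append_left _ (hmem _ hz)
    · exact List.mem_append_right _ (List.mem_map.2 ⟨z, hmem _ hz, rfl⟩)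

theorem qword_mem {M : Type*} [Group M] {S : Subgroup M} {e : ℕ → M} {z : M} (he : ∀ i, i < 6 → e i ∈ S)
    (hz : z ∈ S) (q : ℕ) : qword e z q ∈ S := by
  refine mul_mem (list_prod_mem fun y hy => ?_) ?_
  · obtain ⟨i, hi, rfl⟩ := List.mem_map.1 hy
    split
    · exact he i (List.mem_range.1 hi)
    · exact one_mem _
  · split
    · exact hz
    · exact one_mem _

theorem qword_pair {M : Type u} {N : Type v} [Group M] [Group N] (e : ℕ → M) (z : M) (e' : ℕ → N) (z' : N) (q : ℕ) :
    qword (fun i => (e i, e' i)) (z, z') q = (qword e z q, qword e' z' q) := by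
  have h1 := map_list_prod (MonoidHom.fst M N) ((List.range 6).map fun i => if q.testBit i then (e i, e' i) else 1)
  have h2 := map_list_prod (MonoidHom.snd M N) ((List.range 6).map fun i => if q.testBit i then (e i, e' i) else 1)
  simp only [List.map_map, MonoidHom.coe_fst, MonoidHom.coe_snd] at h1 h2
  unfold qword
  refine Prod.ext ?_ ?_
  · simp only [Prod.fst_mul, h1]
    congr 1
    · congr 1
      exact List.map_congr_left fun i _ => by simp only [Function.comp_apply]; split <;> rfl
    · split <;> rfl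
  · simp only [Prod.snd_mul, h2]
    congr 1
    · congr 1
      exact List.map_congr_left fun i _ => by simp only [Function.comp_apply]; split <;> rfl
    · split <;> rfl

variable {pe : ℕ → ℕ → Bool} {pa pb : ℕ → ℕ} {pz : Bool}

/-- Two groups of order 21504 with the same frame are isomorphic. -/
theorem Frame.exists_equiv {M : Type u} {N : Type v} [Group M] [Group N] [Finite M] [Finite N]
    (F : Frame pe pa pb pz M) (F' : Frame pe pa pb pz N) (hM : Nat.card M = 21504) (hN : Nat.card N = 21504) :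
    ∃ φ : M ≃* N, φ F.z = F'.z ∧ (∀ i, i < 6 → φ (F.e i) = F'.e i) ∧ φ F.a = F'.a ∧ φ F.b = F'.b := by
  classical
  let P : ℕ → M × N := fun i => (F.e i, F'.e i)
  let pz' : M × N := (F.z, F'.z)
  let pA : M × N := (F.a, F'.a)
  let pB : M × N := (F.b, F'.b)
  let D : Subgroup (M × N) := Subgroup.closure (P '' Set.Iio 6 ∪ {pz', pA, pB})
  let K : Subgroup (M × N) := Subgroup.closure (P '' Set.Iio 6 ∪ {pz'})
  have hKD : K ≤ D := Subgroup.closure_mono (Set.union_subset_union_right _ (by simp))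
  have hPK : ∀ i, i < 6 → P i ∈ K := fun i hi => Subgroup.subset_closure (Or.inl ⟨i, hi, rfl⟩)
  have hzK : pz' ∈ K := Subgroup.subset_closure (Or.inr rfl)
  have hcen : ∀ x, Commute pz' x := fun x => Prod.ext (F.central x.1) (F'.central x.2)
  have hif : ∀ c : Bool, ((if c then F.z else 1, if c then F'.z else 1) : M × N) = if c then pz' else 1 := by
    intro c; cases c <;> rfl
  have hsq : ∀ i, i < 6 → P i * P i = 1 := fun i hi => Prod.ext (F.sq i hi) (F'.sq i hi)
  have hcomm : ∀ i j, i < 6 → j < 6 → P i * P j = (if pe i j then pz' else 1) * (P j * P i) := fun i j hi hj => by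
    rw [← hif]
    exact Prod.ext (F.comm i j hi hj) (F'.comm i j hi hj)
  have hAact : ∀ i, i < 6 → pA * P i * pA⁻¹ = qword P pz' (pa i) := fun i hi => by
    rw [qword_pair F.e F.z F'.e F'.z]
    exact Prod.ext (F.actA i hi) (F'.actA i hi)
  have hBact : ∀ i, i < 6 → pB * P i * pB⁻¹ = qword P pz' (pb i) := fun i hi => by
    rw [qword_pair F.e F.z F'.e F'.z]
    exact Prod.ext (F.actB i hi) (F'.actB i hi)
  have conjK : ∀ g : M × N, (∀ i, i < 6 → g * P i * g⁻¹ ∈ K) → ∀ x ∈ K, g * x * g⁻¹ ∈ K := by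
    intro g hg x hx
    induction hx using Subgroup.closure_induction with
    | mem y hy =>
      rcases hy with ⟨i, hi, rfl⟩ | rfl
      · exact hg i hi
      · rw [← (hcen g).eq, mul_inv_cancel_right]; exact hzK
    | one => simp
    | mul u v _ _ hu hv =>
      have := mul_mem hu hv
      rwa [show g * u * g⁻¹ * (g * v * g⁻¹) = g * (u * v) * g⁻¹ by group] at this
    | inv u _ hu =>
      have := inv_mem hu
      rwa [show (g * u * g⁻¹)⁻¹ = g * u⁻¹ * g⁻¹ by group] at this
  have hnorm : D ≤ Subgroup.normalizer (K : Set (M × N)) := by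
    refine (Subgroup.closure_le _).2 ?_
    intro g hg
    have hg' : ∀ x ∈ K, g * x * g⁻¹ ∈ K := by
      rcases hg with ⟨i, hi, rfl⟩ | rfl | rfl | rfl
      · exact fun x hx => mul_mem (mul_mem (hPK i hi) hx) (inv_mem (hPK i hi))
      · exact fun x hx => mul_mem (mul_mem hzK hx) (inv_mem hzK)
      · exact conjK _ fun i hi => hAact i hi ▸ qword_mem hPK hzK _
      · exact conjK _ fun i hi => hBact i hi ▸ qword_mem hPK hzK _
    exact Subgroup.mem_normalizer_iff_map_conj_eq.2 (Subgroup.eq_of_le_of_card_ge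
      (by rintro _ ⟨x, hx, rfl⟩; exact hg' x hx)
      (le_of_eq (Subgroup.card_map_of_injective (MulAut.conj g).injective).symm))
  haveI hKn : (K.subgroupOf D).Normal := Subgroup.normal_subgroupOf_of_le_normalizer hnorm
  -- the bound for the kernel part
  have hKcard : Nat.card K ≤ 128 := by
    let Z : Subgroup K := Subgroup.zpowers ⟨pz', hzK⟩
    haveI hZn : Z.Normal := by
      refine ⟨fun x hx y => ?_⟩
      obtain ⟨k, rfl⟩ := hx
      have : Commute (⟨pz', hzK⟩ : K) y := Subtype.ext (hcen y)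
      show y * _ * y⁻¹ ∈ Z
      rw [← (this.zpow_left k).eq, mul_inv_cancel_right]
      exact zpow_mem (Subgroup.mem_zpowers _) k
    let y : ℕ → K ⧸ Z := fun i => if hi : i < 6 then QuotientGroup.mk ⟨P i, hPK i hi⟩ else 1
    have hy2 : ∀ i, i < 6 → y i * y i = 1 := fun i hi => by
      simp only [y, dif_pos hi]
      rw [← QuotientGroup.mk_mul, show (⟨P i, hPK i hi⟩ : K) * ⟨P i, hPK i hi⟩ = 1 from Subtype.ext (hsq i hi),
        QuotientGroup.mk_one]
    have hyc : ∀ i j, i < 6 → j < 6 → Commute (y i) (y j) := fun i j hi hj => by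
      show y i * y j = y j * y i
      simp only [y, dif_pos hi, dif_pos hj, ← QuotientGroup.mk_mul]
      refine (QuotientGroup.eq (s := Z)).2 ?_
      have e := hcomm i j hi hj
      cases hp : pe i j
      · rw [hp, if_neg Bool.false_ne_true, one_mul] at e
        have e' : (⟨P i, hPK i hi⟩ : K) * ⟨P j, hPK j hj⟩ = ⟨P j, hPK j hj⟩ * ⟨P i, hPK i hi⟩ := Subtype.ext e
        rw [e', inv_mul_cancel]; exact one_mem _
      · rw [hp, if_pos rfl] at e
        have e' : (⟨P i, hPK i hi⟩ : K) * ⟨P j, hPK j hj⟩ = ⟨pz', hzK⟩ * (⟨P j, hPK j hj⟩ * ⟨P i, hPK i hi⟩) :=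
          Subtype.ext e
        rw [e', mul_inv_rev, mul_assoc]
        have hc : Commute (⟨pz', hzK⟩ : K) (⟨P j, hPK j hj⟩ * ⟨P i, hPK i hi⟩) := Subtype.ext (hcen _)
        rw [(hc.inv_left).eq, ← mul_assoc, inv_mul_cancel, one_mul]
        exact inv_mem (Subgroup.mem_zpowers _)
    have hygen : Subgroup.closure (y '' Set.Iio 6) = ⊤ := by
      rw [eq_top_iff]
      rintro q -
      induction q using QuotientGroup.induction_on with
      | H x =>
        obtain ⟨x, hx⟩ := x
        induction hx using Subgroup.closure_induction with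
        | mem w hw =>
          rcases hw with ⟨i, hi, rfl⟩ | rfl
          · refine Subgroup.subset_closure ⟨i, hi, ?_⟩
            simp only [y, dif_pos (show i < 6 from hi)]
          · rw [(QuotientGroup.eq_one_iff _).2 (Subgroup.mem_zpowers _)]; exact one_mem _
        | one => exact one_mem _
        | mul u v hu hv iu iv =>
          rw [show (⟨u * v, mul_mem hu hv⟩ : K) = ⟨u, hu⟩ * ⟨v, hv⟩ from rfl, QuotientGroup.mk_mul]
          exact mul_mem iu iv
        | inv u hu iu =>
          rw [show (⟨u⁻¹, inv_mem hu⟩ : K) = (⟨u, hu⟩)⁻¹ from rfl, QuotientGroup.mk_inv]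
          exact inv_mem iu
    obtain ⟨L, hL, hLm⟩ := card_le_of_comm_invols y hy2 hyc 6 le_rfl
    have h64 : Nat.card (K ⧸ Z) ≤ 64 := by
      refine le_of_le_of_eq (Nat.card_le_card_of_surjective (fun i : Fin L.length => L.get i) fun q => ?_)
        ((Nat.card_fin _).trans (hL.trans (by norm_num)))
      exact List.mem_iff_get.1 (hLm q (hygen ▸ Subgroup.mem_top q))
    have hZ2 : Nat.card Z ≤ 2 := by
      rw [Nat.card_zpowers]
      exact Nat.le_of_dvd two_pos (orderOf_dvd_of_pow_eq_one (Subtype.ext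
        (Prod.ext (by simp [pow_two, F.zsq, pz']) (by simp [pow_two, F'.zsq, pz']))))
    calc Nat.card K = Nat.card (K ⧸ Z) * Nat.card Z := Subgroup.card_eq_card_quotient_mul_card_subgroup Z
      _ ≤ 64 * 2 := Nat.mul_le_mul h64 hZ2
      _ = 128 := rfl
  -- the bound for the quotient
  have hAD : pA ∈ D := Subgroup.subset_closure (Or.inr (Or.inr (Or.inl rfl)))
  have hBD : pB ∈ D := Subgroup.subset_closure (Or.inr (Or.inr (Or.inr rfl)))
  have hQ : Nat.card (D ⧸ K.subgroupOf D) ≤ 168 := by
    let qa : D ⧸ K.subgroupOf D := QuotientGroup.mk ⟨pA, hAD⟩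
    let qb : D ⧸ K.subgroupOf D := QuotientGroup.mk ⟨pB, hBD⟩
    have hgen : Subgroup.closure {qa, qb} = ⊤ := by
      rw [eq_top_iff]
      rintro q -
      induction q using QuotientGroup.induction_on with
      | H x =>
        obtain ⟨x, hx⟩ := x
        induction hx using Subgroup.closure_induction with
        | mem w hw =>
          rcases hw with ⟨i, hi, rfl⟩ | rfl | rfl | rfl
          · rw [(QuotientGroup.eq_one_iff _).2 (Subgroup.mem_subgroupOf.2 (hPK i hi))]; exact one_mem _
          · rw [(QuotientGroup.eq_one_iff _).2 (Subgroup.mem_subgroupOf.2 hzK)]; exact one_mem _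
          · exact Subgroup.subset_closure (Or.inl rfl)
          · exact Subgroup.subset_closure (Or.inr rfl)
        | one => exact one_mem _
        | mul u v hu hv iu iv =>
          rw [show (⟨u * v, mul_mem hu hv⟩ : D) = ⟨u, hu⟩ * ⟨v, hv⟩ from rfl, QuotientGroup.mk_mul]
          exact mul_mem iu iv
        | inv u hu iu =>
          rw [show (⟨u⁻¹, inv_mem hu⟩ : D) = (⟨u, hu⟩)⁻¹ from rfl, QuotientGroup.mk_inv]
          exact inv_mem iu
    refine (card_le_of_lrels qa qb hgen ?_ ?_ ?_ ?_).2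
    · rw [← QuotientGroup.mk_mul, QuotientGroup.eq_one_iff, Subgroup.mem_subgroupOf]
      show pA * pA ∈ K
      rw [show pA * pA = if pz then pz' else 1 from by rw [← hif]; exact Prod.ext F.asq F'.asq]
      split
      · exact hzK
      · exact one_mem _
    · rw [← QuotientGroup.mk_pow, QuotientGroup.eq_one_iff, Subgroup.mem_subgroupOf]
      show pB ^ 3 ∈ K
      rw [show pB ^ 3 = 1 from Prod.ext F.bcube F'.bcube]
      exact one_mem _
    · rw [← QuotientGroup.mk_mul, ← QuotientGroup.mk_pow, QuotientGroup.eq_one_iff, Subgroup.mem_subgroupOf]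
      show (pA * pB) ^ 7 ∈ K
      rw [show (pA * pB) ^ 7 = 1 from Prod.ext F.abseven F'.abseven]
      exact one_mem _
    · intro x
      induction x using QuotientGroup.induction_on with
      | H x =>
        simp only [qa, qb, ← QuotientGroup.mk_inv, ← QuotientGroup.mk_mul, ← QuotientGroup.mk_pow]
        refine congrArg QuotientGroup.mk (show Commute _ x from Subtype.ext (Prod.ext ?_ ?_))
        · show Commute ((F.a * F.b⁻¹ * F.a * F.b) ^ 4) x.1.1
          rcases F.comfour with h | h <;> rw [h]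
          exacts [Commute.one_left _, F.central _]
        · show Commute ((F'.a * F'.b⁻¹ * F'.a * F'.b) ^ 4) x.1.2
          rcases F'.comfour with h | h <;> rw [h]
          exacts [Commute.one_left _, F'.central _]
  have hD : Nat.card D ≤ 21504 := by
    rw [Subgroup.card_eq_card_quotient_mul_card_subgroup (K.subgroupOf D),
      Nat.card_congr (Subgroup.subgroupOfEquivOfLe hKD).toEquiv]
    exact (Nat.mul_le_mul hQ hKcard).trans (by norm_num)
  -- both projections are surjective
  let f₁ := (MonoidHom.fst M N).comp D.subtype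
  let f₂ := (MonoidHom.snd M N).comp D.subtype
  have sub : ∀ y ∈ P '' Set.Iio 6 ∪ {pz', pA, pB}, y ∈ D := fun y hy => Subgroup.subset_closure hy
  have s₁ : Function.Surjective f₁ := by
    rw [← MonoidHom.range_eq_top, eq_top_iff, ← F.gen, Subgroup.closure_le]
    rintro y (⟨i, hi, rfl⟩ | rfl | rfl | rfl)
    · exact ⟨⟨_, sub _ (Or.inl ⟨i, hi, rfl⟩)⟩, rfl⟩
    · exact ⟨⟨pz', sub _ (Or.inr (Or.inl rfl))⟩, rfl⟩
    · exact ⟨⟨pA, hAD⟩, rfl⟩
    · exact ⟨⟨pB, hBD⟩, rfl⟩
  have s₂ : Function.Surjective f₂ := by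
    rw [← MonoidHom.range_eq_top, eq_top_iff, ← F'.gen, Subgroup.closure_le]
    rintro y (⟨i, hi, rfl⟩ | rfl | rfl | rfl)
    · exact ⟨⟨_, sub _ (Or.inl ⟨i, hi, rfl⟩)⟩, rfl⟩
    · exact ⟨⟨pz', sub _ (Or.inr (Or.inl rfl))⟩, rfl⟩
    · exact ⟨⟨pA, hAD⟩, rfl⟩
    · exact ⟨⟨pB, hBD⟩, rfl⟩
  have b₁ : Function.Bijective f₁ := s₁.bijective_of_nat_card_le (by omega)
  have b₂ : Function.Bijective f₂ := s₂.bijective_of_nat_card_le (by omega)
  let φ := (MulEquiv.ofBijective f₁ b₁).symm.trans (MulEquiv.ofBijective f₂ b₂)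
  have key : ∀ d : D, φ d.1.1 = d.1.2 := fun d => by
    show f₂ ((MulEquiv.ofBijective f₁ b₁).symm (f₁ d)) = f₂ d
    rw [show (MulEquiv.ofBijective f₁ b₁).symm (f₁ d) = d from (MulEquiv.ofBijective f₁ b₁).symm_apply_apply d]
  exact ⟨φ, key ⟨pz', sub _ (Or.inr (Or.inl rfl))⟩, fun i hi => key ⟨P i, sub _ (Or.inl ⟨i, hi, rfl⟩)⟩,
    key ⟨pA, hAD⟩, key ⟨pB, hBD⟩⟩

end CfsgLib.Spor.HeldRecog
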