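/-
Products of six involutions generating an extraspecial group multiply as their coordinates do.
-/
import Cfsg.Agent.Lib.Spor.HeldRecog.Cent.Graph
import Cfsg.Agent.Lib.Spor.HeldRecog.Cent.W
import Cfsg.Agent.Lib.Spor.HeldRecog.Model.Split

set_option autoImplicit false
set_option maxRecDepth 100000

namespace CfsgLib.Spor.HeldRecog

open CfsgLib.Spor.TC Subgroup

universe v

/-- Whether two of the six generators fail to commute. -/
noncomputable def pairBit (i j : ℕ) : Bool :=
  Nat.beq (Nat.xor (Norm.wq (Nat.xor (2 ^ i) (2 ^ j))) (Nat.xor (Norm.wq (2 ^ i)) (Norm.wq (2 ^ j)))) 1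

/-- The code as a product of generators. -/
noncomputable def qfold (x : ℕ) : ℕ :=
  qmul (List.rec (motive := fun _ => ℕ) 0 (fun a _ ih => qmul a ih)
    ((List.range 6).map fun i => if x.testBit i then 2 ^ i else 0))
    (if x.testBit 6 then 64 else 0)

theorem qfold_eq : ∀ x : Fin 128, qfold x = x := by decide +kernel

noncomputable def commBitOK : Bool :=
  allFrom (fun x => allFrom (fun y => Nat.beq (qmul x y)
    (Nat.xor (qmul y x) (Nat.shiftLeft (Nat.xor (Norm.wq (Nat.xor x y)) (Nat.xor (Norm.wq x) (Norm.wq y))) 6))) 0 64) 0 64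

theorem commBit_ok : commBitOK = true := by decide +kernel

/-- The rule for exchanging two vectors. -/
theorem qmul_comm_bit {x y : ℕ} (hx : x < 64) (hy : y < 64) :
    qmul x y = qmul y x ^^^ ((Norm.wq (x ^^^ y) ^^^ (Norm.wq x ^^^ Norm.wq y)) <<< 6) := by
  have h := commBit_ok
  unfold commBitOK at h
  have h1 := of_allFrom h hx
  have h2 := of_allFrom h1 hy
  exact beq_eq h2

theorem qmul_code {T : Tab} (h : T.Valid) {x y : ℕ} (hx : x < 128) (hy : y < 128) : T.mul x y = qmul x y := by
  obtain ⟨-, h1, h2⟩ := h.mul_facts (show x < 21504 by omega) (show y < 21504 by omega)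
  rw [show x / 128 = 0 by omega, show y / 128 = 0 by omega] at h1 h2
  rw [show x % 128 = x by omega, show y % 128 = y by omega, h.act_zero hy, (h.lone (a := 0) (by omega)).2.2.1,
    Nat.xor_zero] at h2
  rw [(h.lone (a := 0) (by omega)).1] at h1
  omega

/-- The element with the code. -/
def Cen.ofCode (T : Tab) (x : ℕ) : Cen T := if h : x < 21504 then ⟨x, h⟩ else ⟨0, by omega⟩

theorem Cen.val_ofCode (T : Tab) {x : ℕ} (h : x < 21504) : (Cen.ofCode T x).val = x := by
  rw [Cen.ofCode, dif_pos h]

theorem split_code_mul {x y : ℕ} (hx : x < 128) (hy : y < 128) :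
    Cen.ofCode splitTab (qmul x y) = Cen.ofCode splitTab x * Cen.ofCode splitTab y := by
  refine Cen.ext ?_
  have h := (qmul_facts hx hy).1
  rw [split_mul_val, Cen.val_ofCode _ (by omega), Cen.val_ofCode _ (by omega), Cen.val_ofCode _ (by omega),
    qmul_code splitTab_valid hx hy]

noncomputable def unitsOK : Bool :=
  allFrom (fun i => Nat.blt (2 ^ i) 64 && (Nat.beq (qmul (2 ^ i) (2 ^ i)) 0 &&
    allFrom (fun j => Nat.beq (qmul (2 ^ i) (2 ^ j))
      (Nat.xor (qmul (2 ^ j) (2 ^ i)) (Bool.rec 0 64 (pairBit i j)))) 0 6)) 0 6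

theorem units_ok : unitsOK = true := by decide +kernel

theorem unit_facts {i : ℕ} (hi : i < 6) : 2 ^ i < 64 ∧ qmul (2 ^ i) (2 ^ i) = 0 ∧
    ∀ j, j < 6 → qmul (2 ^ i) (2 ^ j) = qmul (2 ^ j) (2 ^ i) ^^^ (bif pairBit i j then 64 else 0) := by
  have h := units_ok
  unfold unitsOK at h
  have h1 := of_allFrom h hi
  simp only [Bool.and_eq_true] at h1
  refine ⟨Nat.le_of_ble_eq_true h1.1, beq_eq h1.2.1, fun j hj => ?_⟩
  have h2' := of_allFrom h1.2.2 hj
  have h2 := beq_eq h2'
  refine h2.trans ?_
  cases pairBit i j <;> rfl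

/-- A list product of codes. -/
theorem split_code_list : ∀ (l : List ℕ), (∀ a ∈ l, a < 128) →
    List.rec (motive := fun _ => ℕ) 0 (fun a _ ih => qmul a ih) l < 128 ∧
      (l.map (Cen.ofCode splitTab)).prod =
        Cen.ofCode splitTab (List.rec (motive := fun _ => ℕ) 0 (fun a _ ih => qmul a ih) l) := by
  intro l
  induction l with
  | nil => exact fun _ => ⟨show (0 : ℕ) < 128 by omega, by simp only [List.map_nil, List.prod_nil]; exact Cen.ext rfl⟩
  | cons a l ih =>
    intro hl
    obtain ⟨h1, h2⟩ := ih fun b hb => hl b (List.mem_cons_of_mem _ hb)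
    refine ⟨(qmul_facts (hl a List.mem_cons_self) h1).1, ?_⟩
    rw [List.map_cons, List.prod_cons, h2, ← split_code_mul (hl a List.mem_cons_self) h1]

theorem split_qword {x : ℕ} (hx : x < 128) :
    qword (fun i => Cen.ofCode splitTab (2 ^ i)) (Cen.ofCode splitTab 64) x = Cen.ofCode splitTab x := by
  have hl : ∀ a ∈ (List.range 6).map (fun i => if x.testBit i then 2 ^ i else 0), a < 128 := by
    intro a ha
    obtain ⟨i, hi, rfl⟩ := List.mem_map.1 ha
    have := (unit_facts (List.mem_range.1 hi)).1
    split <;> omega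
  obtain ⟨h1, h2⟩ := split_code_list _ hl
  conv_rhs => rw [show x = qfold x from (qfold_eq ⟨x, hx⟩).symm]
  unfold qword qfold
  rw [split_code_mul h1 (by split <;> omega), ← h2, List.map_map]
  congr 1
  · congr 1
    refine List.map_congr_left fun i _ => ?_
    simp only [Function.comp_apply]
    split
    · rfl
    · exact Cen.ext (by rw [Cen.val_ofCode _ (by omega)]; rfl)
  · split
    · rfl
    · exact Cen.ext (by rw [Cen.val_ofCode _ (by omega)]; rfl)

variable {N : Type v} [Group N] [Finite N]

/-- The coordinates multiply. -/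
theorem qword_mul {e : ℕ → N} {z : N} (hsq : ∀ i, i < 6 → e i * e i = 1) (hz : z * z = 1)
    (hcen : ∀ i, i < 6 → Commute z (e i))
    (hcomm : ∀ i j, i < 6 → j < 6 → e i * e j = (if pairBit i j then z else 1) * (e j * e i))
    {x y : ℕ} (hx : x < 128) (hy : y < 128) : qword e z (qmul x y) = qword e z x * qword e z y := by
  classical
  let e₀ : ℕ → Cen splitTab := fun i => Cen.ofCode splitTab (2 ^ i)
  let z₀ : Cen splitTab := Cen.ofCode splitTab 64
  let P : ℕ → Cen splitTab × N := fun i => (e₀ i, e i)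
  let K : Subgroup (Cen splitTab × N) := closure (P '' Set.Iio 6 ∪ {(z₀, z)})
  have h0 : Cen.ofCode splitTab 0 = (1 : Cen splitTab) := Cen.ext (by rw [Cen.val_ofCode _ (by omega)]; rfl)
  have sq₀ : ∀ i, i < 6 → e₀ i * e₀ i = 1 := fun i hi => by
    have h1 := unit_facts hi
    rw [← split_code_mul (by omega) (by omega), h1.2.1, h0]
  have zsq₀ : z₀ * z₀ = 1 := by
    rw [← split_code_mul (by omega) (by omega), show qmul 64 64 = 0 from by decide +kernel, h0]
  have zcen₀ : ∀ q, q < 128 → Commute z₀ (Cen.ofCode splitTab q) := fun q hq => by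
    have hq' := qone_facts hq
    show z₀ * _ = _ * z₀
    rw [← split_code_mul (by omega) hq, ← split_code_mul hq (by omega), hq'.2.2.2.2.1, hq'.2.2.2.2.2]
  have comm₀ : ∀ i j, i < 6 → j < 6 → e₀ i * e₀ j = (if pairBit i j then z₀ else 1) * (e₀ j * e₀ i) := by
    intro i j hi hj
    have hi' := unit_facts hi
    have hj' := unit_facts hj
    have hq := (qmul_facts (show 2 ^ j < 128 by omega) (show 2 ^ i < 128 by omega)).1
    rw [← split_code_mul (by omega) (by omega), ← split_code_mul (by omega) (by omega), hi'.2.2 j hj]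
    cases pairBit i j
    · simp [one_mul]
    · rw [if_pos rfl, ← split_code_mul (by omega) hq, (qone_facts hq).2.2.2.2.2]
      rfl
  have hzK : (z₀, z) ∈ K := subset_closure (Or.inr rfl)
  have hPK : ∀ i, i < 6 → P i ∈ K := fun i hi => subset_closure (Or.inl ⟨i, hi, rfl⟩)
  have hzcK : ∀ p ∈ K, Commute (z₀, z) p := by
    intro p hp
    induction hp using closure_induction with
    | mem w hw =>
      rcases hw with ⟨i, hi, rfl⟩ | rfl
      · exact Prod.ext (zcen₀ _ (by have := (unit_facts hi).1; omega)) (hcen i hi)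
      · rfl
    | one => exact Commute.one_right _
    | mul a b _ _ ha hb => exact ha.mul_right hb
    | inv a _ ha => exact ha.inv_right
  have hK : Nat.card K ≤ 128 := by
    let Z : Subgroup K := zpowers ⟨(z₀, z), hzK⟩
    haveI hZn : Z.Normal := by
      refine ⟨fun w hw q => ?_⟩
      obtain ⟨k, rfl⟩ := hw
      have hc : Commute (⟨(z₀, z), hzK⟩ : K) q := Subtype.ext (hzcK q q.2)
      show q * _ * q⁻¹ ∈ Z
      rw [← (hc.zpow_left k).eq, mul_inv_cancel_right]
      exact zpow_mem (mem_zpowers _) k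
    let w : ℕ → K ⧸ Z := fun i => if hi : i < 6 then QuotientGroup.mk ⟨P i, hPK i hi⟩ else 1
    have hw2 : ∀ i, i < 6 → w i * w i = 1 := fun i hi => by
      simp only [w, dif_pos hi]
      rw [← QuotientGroup.mk_mul, show (⟨P i, hPK i hi⟩ : K) * ⟨P i, hPK i hi⟩ = 1 from
        Subtype.ext (Prod.ext (sq₀ i hi) (hsq i hi)), QuotientGroup.mk_one]
    have hwc : ∀ i j, i < 6 → j < 6 → Commute (w i) (w j) := fun i j hi hj => by
      show w i * w j = w j * w i
      simp only [w, dif_pos hi, dif_pos hj]
      rw [← QuotientGroup.mk_mul, ← QuotientGroup.mk_mul]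
      cases hp : pairBit i j
      · congr 1
        refine Subtype.ext (Prod.ext ?_ ?_)
        · have := comm₀ i j hi hj; rw [hp, if_neg Bool.false_ne_true, one_mul] at this; exact this
        · have := hcomm i j hi hj; rw [hp, if_neg Bool.false_ne_true, one_mul] at this; exact this
      · have e' : (⟨P i, hPK i hi⟩ : K) * ⟨P j, hPK j hj⟩ = ⟨(z₀, z), hzK⟩ * (⟨P j, hPK j hj⟩ * ⟨P i, hPK i hi⟩) := by
          refine Subtype.ext (Prod.ext ?_ ?_)
          · have := comm₀ i j hi hj; rw [hp, if_pos rfl] at this; exact this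
          · have := hcomm i j hi hj; rw [hp, if_pos rfl] at this; exact this
        rw [e', QuotientGroup.mk_mul, (QuotientGroup.eq_one_iff _).2 (mem_zpowers _), one_mul]
    have hwgen : closure (w '' Set.Iio 6) = ⊤ := by
      rw [eq_top_iff]
      rintro q -
      induction q using QuotientGroup.induction_on with
      | H a =>
        obtain ⟨a, ha⟩ := a
        induction ha using closure_induction with
        | mem b hb =>
          rcases hb with ⟨i, hi, rfl⟩ | rfl
          · exact subset_closure ⟨i, hi, by simp only [w, dif_pos (show i < 6 from hi)]⟩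
          · rw [(QuotientGroup.eq_one_iff _).2 (mem_zpowers _)]; exact one_mem _
        | one => exact one_mem _
        | mul b c hb hc ib ic =>
          rw [show (⟨b * c, mul_mem hb hc⟩ : K) = ⟨b, hb⟩ * ⟨c, hc⟩ from rfl, QuotientGroup.mk_mul]
          exact mul_mem ib ic
        | inv b hb ib =>
          rw [show (⟨b⁻¹, inv_mem hb⟩ : K) = (⟨b, hb⟩)⁻¹ from rfl, QuotientGroup.mk_inv]
          exact inv_mem ib
    obtain ⟨L, hL, hLm⟩ := card_le_of_comm_invols w hw2 hwc 6 le_rfl
    have h64 : Nat.card (K ⧸ Z) ≤ 64 := by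
      refine le_of_le_of_eq (Nat.card_le_card_of_surjective (fun i : Fin L.length => L.get i) fun q => ?_)
        ((Nat.card_fin _).trans (hL.trans (by norm_num)))
      exact List.mem_iff_get.1 (hLm q (hwgen ▸ mem_top q))
    have hZ2 : Nat.card Z ≤ 2 := by
      rw [Nat.card_zpowers]
      exact Nat.le_of_dvd two_pos (orderOf_dvd_of_pow_eq_one (Subtype.ext
        (Prod.ext (by simp [pow_two, zsq₀]) (by simp [pow_two, hz]))))
    calc Nat.card K = Nat.card (K ⧸ Z) * Nat.card Z := card_eq_card_quotient_mul_card_subgroup Z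
      _ ≤ 64 * 2 := Nat.mul_le_mul h64 hZ2
      _ = 128 := rfl
  have hin : ∀ q, q < 128 → (Cen.ofCode splitTab q, qword e z q) ∈ K := fun q hq => by
    rw [← split_qword hq, ← qword_pair]
    exact qword_mem hPK hzK q
  let F : Fin 128 → K := fun q => ⟨(Cen.ofCode splitTab q, qword e z q), hin q q.2⟩
  have hF : Function.Injective F := fun a b h => by
    have h1 := congrArg (fun p : K => (p : Cen splitTab × N).1.val) h
    simp only [F, Cen.val_ofCode _ (show (a : ℕ) < 21504 by omega),
      Cen.val_ofCode _ (show (b : ℕ) < 21504 by omega)] at h1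
    exact Fin.ext h1
  have hFb : Function.Bijective F := hF.bijective_of_nat_card_le (by rw [Nat.card_fin]; exact hK)
  obtain ⟨r, hr⟩ := hFb.2 ⟨_, mul_mem (hin x hx) (hin y hy)⟩
  have h1 := congrArg Subtype.val hr
  simp only [F, Prod.mk_mul_mk, Prod.mk.injEq] at h1
  have h2 : (r : ℕ) = qmul x y := by
    rw [← split_code_mul hx hy] at h1
    have := congrArg Cen.val h1.1
    rwa [Cen.val_ofCode _ (by omega), Cen.val_ofCode _ (by have := (qmul_facts hx hy).1; omega)] at this
  rw [← h2]
  exact h1.2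

end CfsgLib.Spor.HeldRecog
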