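/-
The frames of the candidate models.
-/
import Cfsg.Agent.Lib.Spor.HeldRecog.Cent.QWord
import Cfsg.Agent.Lib.Spor.HeldRecog.Cent.Pair
import Cfsg.Agent.Lib.Spor.HeldRecog.Model.SplitTwist
import Cfsg.Agent.Lib.Spor.HeldRecog.Model.Uni
import Cfsg.Agent.Lib.Spor.HeldRecog.Model.UniTwist

set_option autoImplicit false
set_option maxRecDepth 100000

namespace CfsgLib.Spor.HeldRecog

open CfsgLib.Spor.TC

/-- The image of a generator of the extraspecial subgroup. -/
noncomputable def paT (T : Tab) (g i : ℕ) : ℕ := T.act g (2 ^ i)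

/-- The power of a code. -/
noncomputable def mpow (T : Tab) (x n : ℕ) : ℕ := Nat.rec (motive := fun _ => ℕ) 0 (fun _ ih => T.mul ih x) n

/-- The checks on the frame of a table. -/
noncomputable def frameOK (T : Tab) (pz : Bool) (a b : ℕ) : Bool :=
  Nat.beq (Nat.div a 128) T.ga && (Nat.beq (Nat.div b 128) T.gb && (Nat.blt a 21504 && (Nat.blt b 21504 &&
  (allFrom (fun i => Nat.beq (T.mul (T.mul a (2 ^ i)) (T.inverse a)) (paT T T.ga i) &&
    Nat.beq (T.mul (T.mul b (2 ^ i)) (T.inverse b)) (paT T T.gb i)) 0 6 &&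
  (Nat.beq (T.mul a a) (Bool.rec 0 64 pz) && (Nat.beq (mpow T b 3) 0 && (Nat.beq (mpow T (T.mul a b) 7) 0 &&
    (Nat.beq (mpow T (T.mul (T.mul (T.mul a (T.inverse b)) a) b) 4) 0 ||
      Nat.beq (mpow T (T.mul (T.mul (T.mul a (T.inverse b)) a) b) 4) 64))))))))

theorem tab_qfold_list {T : Tab} (h : T.Valid) (P : ℕ → Prop) (h0 : P 0)
    (hmul : ∀ x y, x < 128 → y < 128 → P x → P y → P (qmul x y)) :
    ∀ l : List ℕ, (∀ a ∈ l, a < 128 ∧ P a) →
      List.rec (motive := fun _ => ℕ) 0 (fun a _ ih => qmul a ih) l < 128 ∧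
        P (List.rec (motive := fun _ => ℕ) 0 (fun a _ ih => qmul a ih) l) := by
  intro l
  induction l with
  | nil => exact fun _ => ⟨show (0 : ℕ) < 128 by omega, h0⟩
  | cons a l ih =>
    intro hl
    obtain ⟨h1, h2⟩ := ih fun b hb => hl b (List.mem_cons_of_mem _ hb)
    obtain ⟨ha, ha'⟩ := hl a List.mem_cons_self
    exact ⟨(qmul_facts ha h1).1, hmul _ _ ha h1 ha' h2⟩

/-- A property closed under products holds for all codes below 128 if it does for the generators. -/
theorem code_induction {T : Tab} (h : T.Valid) (P : ℕ → Prop) (h0 : P 0)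
    (hmul : ∀ x y, x < 128 → y < 128 → P x → P y → P (qmul x y)) (hgen : ∀ i, i < 6 → P (2 ^ i)) (h64 : P 64)
    {x : ℕ} (hx : x < 128) : P x := by
  rw [show x = qfold x from (qfold_eq ⟨x, hx⟩).symm]
  unfold qfold
  obtain ⟨h1, h2⟩ := tab_qfold_list h P h0 hmul ((List.range 6).map fun i => if x.testBit i then 2 ^ i else 0)
    (by
      intro a ha
      obtain ⟨i, hi, rfl⟩ := List.mem_map.1 ha
      have := (unit_facts (List.mem_range.1 hi)).1
      split
      · exact ⟨by omega, hgen i (List.mem_range.1 hi)⟩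
      · exact ⟨by omega, h0⟩)
  split
  · exact hmul _ _ h1 (by omega) h2 h64
  · exact hmul _ _ h1 (by omega) h2 h0

/-- The frame of a checked table. -/
theorem exists_modelFrame {T : Tab} (h : T.Valid) (pz : Bool) (a b : ℕ) (hk : frameOK T pz a b = true) :
    letI := groupCen h
    ∃ F : Frame pairBit (paT T T.ga) (paT T T.gb) pz (Cen T), F.z = Cen.ofCode T 64 := by
  letI := groupCen h
  unfold frameOK at hk
  simp only [Bool.and_eq_true, Bool.or_eq_true] at hk
  obtain ⟨hga, hgb, hal, hbl, hact, hsq, hcube, h7, h4⟩ := hk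
  have hal' : a < 21504 := Nat.le_of_ble_eq_true hal
  have hbl' : b < 21504 := Nat.le_of_ble_eq_true hbl
  have hmulv : ∀ x y : Cen T, (x * y).val = T.mul x.val y.val := fun _ _ => rfl
  have hinvv : ∀ x : Cen T, (x⁻¹).val = T.inverse x.val := fun _ => rfl
  have hpow : ∀ (x : Cen T) (n : ℕ), (x ^ n).val = mpow T x.val n := by
    intro x n
    induction n with
    | zero => rfl
    | succ n ih => rw [pow_succ, hmulv, ih]; rfl
  have hv : ∀ q, q < 128 → (Cen.ofCode T q).val = q := fun q hq => Cen.val_ofCode T (by omega)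
  have hqm : ∀ x y, x < 128 → y < 128 → Cen.ofCode T (qmul x y) = Cen.ofCode T x * Cen.ofCode T y := by
    intro x y hx hy
    refine Cen.ext ?_
    rw [hmulv, hv x hx, hv y hy, hv _ (qmul_facts hx hy).1, qmul_code h hx hy]
  have h00 : Cen.ofCode T 0 = (1 : Cen T) := Cen.ext (by rw [hv 0 (by omega)]; rfl)
  have hcen : ∀ x : Cen T, Commute (Cen.ofCode T 64) x := by
    intro x
    refine Cen.ext ?_
    rw [hmulv, hmulv, hv 64 (by omega)]
    have hx := x.lt
    obtain ⟨-, p1, p2⟩ := h.mul_facts (show 64 < 21504 by omega) hx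
    obtain ⟨-, r1, r2⟩ := h.mul_facts hx (show 64 < 21504 by omega)
    have hl : x.val / 128 < 168 := by omega
    have hq : x.val % 128 < 128 := by omega
    rw [show (64 : ℕ) / 128 = 0 from rfl] at p1 p2 r1 r2
    rw [show (64 : ℕ) % 128 = 64 from rfl] at p2 r2
    rw [(h.lone hl).2.1] at p1
    rw [(h.lone hl).1] at r1
    rw [h.act_zero hq, (h.lone hl).2.2.2, Nat.xor_zero, (qone_facts hq).2.2.2.2.2] at p2
    rw [(h.act_hom hl).2, (h.lone hl).2.2.1, Nat.xor_zero, (qone_facts hq).2.2.2.2.1] at r2
    omega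
  let A : Cen T := ⟨a, hal'⟩
  let B : Cen T := ⟨b, hbl'⟩
  have hlist : ∀ (l : List ℕ), (∀ q ∈ l, q < 128) →
      List.rec (motive := fun _ => ℕ) 0 (fun q _ ih => qmul q ih) l < 128 ∧
        (l.map (Cen.ofCode T)).prod = Cen.ofCode T (List.rec (motive := fun _ => ℕ) 0 (fun q _ ih => qmul q ih) l) := by
    intro l
    induction l with
    | nil => exact fun _ => ⟨show (0 : ℕ) < 128 by omega, by rw [List.map_nil, List.prod_nil]; exact h00.symm⟩
    | cons q l ih =>
      intro hl
      obtain ⟨h1, h2⟩ := ih fun b hb => hl b (List.mem_cons_of_mem _ hb)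
      refine ⟨(qmul_facts (hl q List.mem_cons_self) h1).1, ?_⟩
      rw [List.map_cons, List.prod_cons, h2, ← hqm _ _ (hl q List.mem_cons_self) h1]
  have hqw : ∀ x, x < 128 → qword (fun i => Cen.ofCode T (2 ^ i)) (Cen.ofCode T 64) x = Cen.ofCode T x := by
    intro x hx
    have hl : ∀ q ∈ (List.range 6).map (fun i => if x.testBit i then 2 ^ i else 0), q < 128 := by
      intro q hq
      obtain ⟨i, hi, rfl⟩ := List.mem_map.1 hq
      have := (unit_facts (List.mem_range.1 hi)).1
      split <;> omega
    obtain ⟨h1, h2⟩ := hlist _ hl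
    conv_rhs => rw [show x = qfold x from (qfold_eq ⟨x, hx⟩).symm]
    unfold qword qfold
    rw [hqm _ _ h1 (by split <;> omega), ← h2, List.map_map]
    congr 1
    · congr 1
      refine List.map_congr_left fun i _ => ?_
      simp only [Function.comp_apply]
      split
      · rfl
      · exact h00.symm
    · split
      · rfl
      · exact h00.symm
  have hact' : ∀ i, i < 6 → (T.mul (T.mul a (2 ^ i)) (T.inverse a) = paT T T.ga i) ∧
      (T.mul (T.mul b (2 ^ i)) (T.inverse b) = paT T T.gb i) := by
    intro i hi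
    have h1 := of_allFrom hact hi
    simp only [Bool.and_eq_true] at h1
    exact ⟨beq_eq h1.1, beq_eq h1.2⟩
  refine ⟨{ e := fun i => Cen.ofCode T (2 ^ i), z := Cen.ofCode T 64, a := A, b := B, sq := ?_, zsq := ?_,
            central := hcen, comm := ?_, actA := ?_, actB := ?_, asq := ?_, bcube := ?_, abseven := ?_,
            comfour := ?_, gen := ?_ }, rfl⟩
  · intro i hi
    have := unit_facts hi
    rw [← hqm _ _ (by omega) (by omega), this.2.1, h00]
  · rw [← hqm _ _ (by omega) (by omega), show qmul 64 64 = 0 from by decide +kernel, h00]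
  · intro i j hi hj
    have hi' := unit_facts hi
    have hj' := unit_facts hj
    have hq := (qmul_facts (show 2 ^ j < 128 by omega) (show 2 ^ i < 128 by omega)).1
    rw [← hqm _ _ (by omega) (by omega), ← hqm _ _ (by omega) (by omega), hi'.2.2 j hj]
    cases pairBit i j
    · simp
    · rw [if_pos rfl, ← hqm _ _ (by omega) hq, (qone_facts hq).2.2.2.2.2]
      rfl
  · intro i hi
    have hp : paT T T.ga i < 128 := h.act_lt h.gens_lt.1 (by have := (unit_facts hi).1; omega)
    rw [hqw _ hp]
    refine Cen.ext ?_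
    rw [hmulv, hmulv, hinvv, hv _ hp, hv _ (by have := (unit_facts hi).1; omega)]
    exact (hact' i hi).1
  · intro i hi
    have hp : paT T T.gb i < 128 := h.act_lt h.gens_lt.2 (by have := (unit_facts hi).1; omega)
    rw [hqw _ hp]
    refine Cen.ext ?_
    rw [hmulv, hmulv, hinvv, hv _ hp, hv _ (by have := (unit_facts hi).1; omega)]
    exact (hact' i hi).2
  · refine Cen.ext ?_
    rw [hmulv]
    cases pz
    · exact (beq_eq hsq).trans (by rfl)
    · exact (beq_eq hsq).trans (by rw [if_pos rfl, hv 64 (by omega)])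
  · exact Cen.ext (by rw [hpow]; exact beq_eq hcube)
  · exact Cen.ext (by rw [hpow, hmulv]; exact beq_eq h7)
  · rcases h4 with h4 | h4
    · exact Or.inl (Cen.ext (by rw [hpow, hmulv, hmulv, hmulv, hinvv]; exact beq_eq h4))
    · exact Or.inr (Cen.ext (by rw [hpow, hmulv, hmulv, hmulv, hinvv, hv 64 (by omega)]; exact beq_eq h4))
  · set S := Subgroup.closure ((fun i => Cen.ofCode T (2 ^ i)) '' Set.Iio 6 ∪ {Cen.ofCode T 64, A, B}) with hS
    have hq : ∀ q, q < 128 → Cen.ofCode T q ∈ S := fun q hq' => by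
      refine code_induction h (fun q => Cen.ofCode T q ∈ S) (h00 ▸ one_mem _) ?_ ?_ ?_ hq'
      · intro x y hx hy i1 i2; rw [hqm x y hx hy]; exact mul_mem i1 i2
      · intro i hi; exact Subgroup.subset_closure (Or.inl ⟨i, hi, rfl⟩)
      · exact Subgroup.subset_closure (Or.inr (Or.inl rfl))
    have hcode : ∀ l q, l < 168 → q < 128 → Cen.ofCode T (code l q) = Cen.ofCode T q * Cen.ofCode T (code l 0) := by
      intro l q hl hq'
      refine Cen.ext ?_
      have hc := code_lt hl hq'
      have hc0 := code_lt hl (show 0 < 128 by omega)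
      rw [hmulv, Cen.val_ofCode _ hc, Cen.val_ofCode _ hc0, hv q hq']
      obtain ⟨-, p1, p2⟩ := h.mul_facts (show q < 21504 by omega) hc0
      rw [(code_div (show 0 < 128 by omega)).1, show q / 128 = 0 by omega] at p1 p2
      rw [(code_div (show 0 < 128 by omega)).2, show q % 128 = q by omega, h.act_zero (by omega),
        (h.lone hl).2.2.2, Nat.xor_zero, (qone_facts hq').1] at p2
      rw [(h.lone hl).2.1] at p1
      show 128 * l + q = _
      omega
    have hred : ∀ x : Cen T, x.val / 128 < 168 ∧ x = Cen.ofCode T (x.val % 128) * Cen.ofCode T (code (x.val / 128) 0) := by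
      intro x
      have hx := x.lt
      refine ⟨by omega, ?_⟩
      rw [← hcode _ _ (by omega) (by omega)]
      refine Cen.ext ?_
      have e : code (x.val / 128) (x.val % 128) = x.val := by
        show 128 * (x.val / 128) + x.val % 128 = x.val
        omega
      rw [e, Cen.val_ofCode _ hx]
    have hg : ∀ g, g = T.ga ∨ g = T.gb → Cen.ofCode T (code g 0) ∈ S := by
      intro g hg
      obtain ⟨X, hX, hXg⟩ : ∃ X ∈ S, X.val / 128 = g := by
        rcases hg with rfl | rfl
        · exact ⟨A, Subgroup.subset_closure (Or.inr (Or.inr (Or.inl rfl))), beq_eq hga⟩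
        · exact ⟨B, Subgroup.subset_closure (Or.inr (Or.inr (Or.inr rfl))), beq_eq hgb⟩
      obtain ⟨-, e⟩ := hred X
      rw [hXg] at e
      rw [e] at hX
      exact (S.mul_mem_cancel_left (hq _ (by omega))).1 hX
    have hl0 : ∀ l, l < 168 → Cen.ofCode T (code l 0) ∈ S := by
      refine h.induction ?_ ?_
      · exact hq 0 (by omega)
      · intro p g hp hgl hgg ih
        obtain ⟨-, e⟩ := hred (Cen.ofCode T (code p 0) * Cen.ofCode T (code g 0))
        have hm := mul_mem ih (hg g hgg)
        rw [e] at hm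
        have hdiv : (Cen.ofCode T (code p 0) * Cen.ofCode T (code g 0)).val / 128 = T.lmul p g := by
          rw [hmulv, Cen.val_ofCode _ (code_lt hp (by omega)), Cen.val_ofCode _ (code_lt hgl (by omega))]
          obtain ⟨-, p1, -⟩ := h.mul_facts (code_lt hp (show 0 < 128 by omega)) (code_lt hgl (show 0 < 128 by omega))
          rw [p1, (code_div (show 0 < 128 by omega)).1, (code_div (show 0 < 128 by omega)).1]
        rw [hdiv] at hm
        exact (S.mul_mem_cancel_left (hq _ (by omega))).1 hm
    rw [eq_top_iff]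
    intro x _
    obtain ⟨hl, e⟩ := hred x
    rw [e]
    exact mul_mem (hq _ (by omega)) (hl0 _ hl)

/-- The first generator, with its central correction. -/
noncomputable def aCode (T : Tab) : ℕ :=
  code T.ga (Bool.rec 64 0 (Nat.beq (mpow T (T.mul (code T.ga 0) (code T.gb (Bool.rec 64 0
    (Nat.beq (mpow T (code T.gb 0) 3) 0)))) 7) 0))

/-- The second generator, with its central correction. -/
noncomputable def bCode (T : Tab) : ℕ := code T.gb (Bool.rec 64 0 (Nat.beq (mpow T (code T.gb 0) 3) 0))

theorem split_frame : frameOK splitTab false (aCode splitTab) (bCode splitTab) = true := by decide +kernel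
theorem splitTwist_frame : frameOK splitTwistTab true (aCode splitTwistTab) (bCode splitTwistTab) = true := by
  decide +kernel
theorem uni_frame : frameOK uniTab false (aCode uniTab) (bCode uniTab) = true := by decide +kernel
theorem uniTwist_frame : frameOK uniTwistTab true (aCode uniTwistTab) (bCode uniTwistTab) = true := by
  decide +kernel

end CfsgLib.Spor.HeldRecog
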