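/-
The action of a group on the six-dimensional quotient of a normal extraspecial subgroup given by coordinates.
-/
import Cfsg.Agent.Lib.Spor.HeldRecog.Cent.Frames
import Mathlib.GroupTheory.Perm.Basic
import Mathlib.Data.Fintype.Basic
import Mathlib.Data.Fintype.Pi
import Mathlib.Tactic

set_option autoImplicit false
set_option maxRecDepth 100000

namespace CfsgLib.Spor.HeldRecog

open CfsgLib.Spor.TC Equiv

/-- A normal subgroup with coordinates, containing its centralizer. -/
structure Setting (C : Type*) [Group C] where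
  t : C
  Q : Subgroup C
  normal : Q.Normal
  E : ℕ → C
  hom : ∀ x y, x < 128 → y < 128 → E (qmul x y) = E x * E y
  inj : ∀ x, x < 128 → E x = 1 → x = 0
  mem : ∀ x, x < 128 → E x ∈ Q
  surj : ∀ c ∈ Q, ∃ x, x < 128 ∧ E x = c
  top : E 64 = t
  central : ∀ c, Commute t c
  cent : Subgroup.centralizer (Q : Set C) ≤ Q

variable {C : Type*} [Group C] (S : Setting C)

namespace Setting

theorem E_zero : S.E 0 = 1 := by
  have h := S.hom 0 0 (by omega) (by omega)
  rw [(qone_facts (show 0 < 128 by omega)).1] at h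
  exact mul_eq_left.1 h.symm

theorem E_inv {x : ℕ} (hx : x < 128) : S.E (qinv x) = (S.E x)⁻¹ := by
  refine (inv_eq_of_mul_eq_one_right ?_).symm
  rw [← S.hom x _ hx (qone_facts hx).2.2.2.1, (qone_facts hx).2.2.1, S.E_zero]

theorem E_inj {x y : ℕ} (hx : x < 128) (hy : y < 128) (h : S.E x = S.E y) : x = y := by
  have hy' := qone_facts hy
  have h1 : S.E (qmul x (qinv y)) = 1 := by rw [S.hom x _ hx hy'.2.2.2.1, S.E_inv hy, h, mul_inv_cancel]
  have h2 := S.inj _ (qmul_facts hx hy'.2.2.2.1).1 h1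
  have h3 : qmul (qinv y) y = 0 := by
    refine S.inj _ (qmul_facts hy'.2.2.2.1 hy).1 ?_
    rw [S.hom _ _ hy'.2.2.2.1 hy, S.E_inv hy, inv_mul_cancel]
  have h4 := qmul_assoc hx hy'.2.2.2.1 hy
  rw [h2, hy'.2.1, h3, (qone_facts hx).1] at h4
  exact h4.symm

/-- The coordinates of an element. -/
noncomputable def cd (c : C) : ℕ := open Classical in if h : ∃ x, x < 128 ∧ S.E x = c then h.choose else 0

theorem cd_spec {c : C} (hc : c ∈ S.Q) : S.cd c < 128 ∧ S.E (S.cd c) = c := by
  unfold cd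
  rw [dif_pos (S.surj c hc)]
  exact (S.surj c hc).choose_spec

theorem cd_E {x : ℕ} (hx : x < 128) : S.cd (S.E x) = x :=
  S.E_inj (S.cd_spec (S.mem x hx)).1 hx (S.cd_spec (S.mem x hx)).2

/-- Conjugation in coordinates. -/
noncomputable def sig (c : C) (x : ℕ) : ℕ := S.cd (c * S.E x * c⁻¹)

theorem conj_mem (c : C) {x : ℕ} (hx : x < 128) : c * S.E x * c⁻¹ ∈ S.Q := S.normal.conj_mem _ (S.mem x hx) c

theorem sig_spec (c : C) {x : ℕ} (hx : x < 128) :
    S.sig c x < 128 ∧ S.E (S.sig c x) = c * S.E x * c⁻¹ := S.cd_spec (S.conj_mem c hx)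

theorem sig_mul (c d : C) {x : ℕ} (hx : x < 128) : S.sig (c * d) x = S.sig c (S.sig d x) := by
  obtain ⟨h1, h2⟩ := S.sig_spec d hx
  refine S.E_inj (S.sig_spec _ hx).1 (S.sig_spec _ h1).1 ?_
  rw [(S.sig_spec _ hx).2, (S.sig_spec _ h1).2, h2]
  group

theorem sig_qmul (c : C) {x y : ℕ} (hx : x < 128) (hy : y < 128) :
    S.sig c (qmul x y) = qmul (S.sig c x) (S.sig c y) := by
  obtain ⟨h1, h2⟩ := S.sig_spec c hx
  obtain ⟨h3, h4⟩ := S.sig_spec c hy
  refine S.E_inj (S.sig_spec _ (qmul_facts hx hy).1).1 (qmul_facts h1 h3).1 ?_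
  rw [(S.sig_spec _ (qmul_facts hx hy).1).2, S.hom _ _ h1 h3, h2, h4, S.hom x y hx hy]
  group

theorem sig_zero (c : C) : S.sig c 0 = 0 :=
  S.E_inj (S.sig_spec c (by omega)).1 (by omega) (by rw [(S.sig_spec c (by omega)).2, S.E_zero]; group)

theorem sig_top (c : C) : S.sig c 64 = 64 :=
  S.E_inj (S.sig_spec c (by omega)).1 (by omega) (by
    rw [(S.sig_spec c (by omega)).2, S.top, ← (S.central c).eq]; group)

theorem sig_flip (c : C) {x : ℕ} (hx : x < 128) : S.sig c (x ^^^ 64) = S.sig c x ^^^ 64 := by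
  rw [← (qone_facts hx).2.2.2.2.1, S.sig_qmul c hx (by omega), S.sig_top,
    (qone_facts (S.sig_spec c hx).1).2.2.2.2.1]

end Setting

noncomputable def lowOK : Bool :=
  allFrom (fun x => Nat.beq (Nat.land (Nat.xor x 64) 63) (Nat.land x 63) &&
    ((Nat.beq x (Nat.land x 63) || Nat.beq x (Nat.xor (Nat.land x 63) 64)) &&
    (Nat.beq (qmul x x) (Nat.shiftLeft (Norm.wq (Nat.land x 63)) 6) && Nat.blt (Nat.land x 63) 64))) 0 128

theorem low_ok : lowOK = true := by decide +kernel

theorem low_facts {x : ℕ} (hx : x < 128) : (x ^^^ 64) &&& 63 = x &&& 63 ∧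
    (x = x &&& 63 ∨ x = (x &&& 63) ^^^ 64) ∧ qmul x x = Norm.wq (x &&& 63) <<< 6 ∧ x &&& 63 < 64 := by
  have h := low_ok
  unfold lowOK at h
  have h1 := of_allFrom h hx
  simp only [Bool.and_eq_true, Bool.or_eq_true] at h1
  exact ⟨beq_eq h1.1, h1.2.1.imp beq_eq beq_eq, beq_eq h1.2.2.1, Nat.le_of_ble_eq_true h1.2.2.2⟩

theorem qmul_low (x y : ℕ) : qmul x y &&& 63 = (x &&& 63) ^^^ (y &&& 63) := by
  rw [qmul_eq]
  refine Nat.eq_of_testBit_eq fun i => ?_
  simp only [Nat.testBit_and, Nat.testBit_xor, Nat.testBit_shiftLeft]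
  by_cases h : i < 6
  · simp only [ge_iff_le, show ¬ 6 ≤ i by omega, decide_false, Bool.false_and, Bool.xor_false,
      Bool.and_xor_distrib_right]
  · rw [show Nat.testBit 63 i = false from
      Nat.testBit_lt_two_pow (lt_of_lt_of_le (by norm_num) (Nat.pow_le_pow_right two_pos (show 6 ≤ i by omega)))]
    simp

namespace Setting

/-- The action on the quotient. -/
noncomputable def low (c : C) (v : ℕ) : ℕ := S.sig c v &&& 63

theorem low_mul (c d : C) {v : ℕ} (hv : v < 64) : S.low (c * d) v = S.low c (S.low d v) := by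
  obtain ⟨h1, -⟩ := S.sig_spec d (show v < 128 by omega)
  unfold low
  rw [S.sig_mul c d (by omega)]
  obtain ⟨-, h3, -, h4⟩ := low_facts h1
  rcases h3 with h3 | h3
  · rw [← h3]
  · conv_lhs => rw [h3, S.sig_flip c (show S.sig d v &&& 63 < 128 by omega)]
    exact (low_facts (S.sig_spec c (show S.sig d v &&& 63 < 128 by omega)).1).1

theorem low_lt (c : C) {v : ℕ} (hv : v < 64) : S.low c v < 64 :=
  (low_facts (S.sig_spec c (show v < 128 by omega)).1).2.2.2

theorem low_one {v : ℕ} (hv : v < 64) : S.low 1 v = v := by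
  unfold low
  rw [sig, one_mul, inv_one, mul_one, S.cd_E (by omega), show (63 : ℕ) = 2 ^ 6 - 1 from rfl,
    Nat.and_two_pow_sub_one_eq_mod, Nat.mod_eq_of_lt (by norm_num; omega)]

/-- The permutation of the quotient. -/
noncomputable def perm (c : C) : Perm (Fin 64) where
  toFun v := ⟨S.low c v, S.low_lt c v.2⟩
  invFun v := ⟨S.low c⁻¹ v, S.low_lt c⁻¹ v.2⟩
  left_inv v := Fin.ext (by
    show S.low c⁻¹ (S.low c v) = v
    rw [← S.low_mul _ _ v.2, inv_mul_cancel, S.low_one v.2])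
  right_inv v := Fin.ext (by
    show S.low c (S.low c⁻¹ v) = v
    rw [← S.low_mul _ _ v.2, mul_inv_cancel, S.low_one v.2])

theorem nf_perm (c : C) {v : ℕ} (hv : v < 64) : Norm.nf (S.perm c) v = S.low c v := by
  rw [Norm.nf, dif_pos hv]; rfl

/-- The homomorphism to the permutations of the quotient. -/
noncomputable def rho : C →* Perm (Fin 64) :=
  MonoidHom.mk' S.perm fun c d => Equiv.ext fun v => Fin.ext (S.low_mul c d v.2)

theorem rho_apply (c : C) {v : ℕ} (hv : v < 64) : Norm.nf (S.rho c) v = S.low c v := S.nf_perm c hv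

theorem rho_mem (c : C) : S.rho c ∈ Norm.orth := by
  refine ⟨fun x y hx hy => ?_, fun x hx => ?_⟩
  · rw [S.rho_apply c (Norm.xor_lt hx hy), S.rho_apply c hx, S.rho_apply c hy]
    unfold low
    have e : qmul x y &&& 63 = x ^^^ y := by
      rw [qmul_low]
      simp only [show (63 : ℕ) = 2 ^ 6 - 1 from rfl, Nat.and_two_pow_sub_one_eq_mod]
      rw [Nat.mod_eq_of_lt (show x < 2 ^ 6 by norm_num; omega), Nat.mod_eq_of_lt (show y < 2 ^ 6 by norm_num; omega)]
    have hq := (qmul_facts (show x < 128 by omega) (show y < 128 by omega)).1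
    have key : S.sig c (x ^^^ y) &&& 63 = S.sig c (qmul x y) &&& 63 := by
      obtain ⟨-, h3, -, -⟩ := low_facts hq
      rw [e] at h3
      rcases h3 with h3 | h3
      · rw [h3]
      · rw [h3, S.sig_flip c (show x ^^^ y < 128 by have := Norm.xor_lt hx hy; omega)]
        exact ((low_facts (S.sig_spec c (show x ^^^ y < 128 by have := Norm.xor_lt hx hy; omega)).1).1).symm
    rw [key, S.sig_qmul c (by omega) (by omega), qmul_low]
  · rw [S.rho_apply c hx]
    obtain ⟨h1, -⟩ := S.sig_spec c (show x < 128 by omega)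
    obtain ⟨-, -, h5, h6⟩ := low_facts h1
    obtain ⟨-, -, h7, -⟩ := low_facts (show x < 128 by omega)
    have hx63 : x &&& 63 = x := by
      rw [show (63 : ℕ) = 2 ^ 6 - 1 from rfl, Nat.and_two_pow_sub_one_eq_mod, Nat.mod_eq_of_lt (by norm_num; omega)]
    rw [hx63] at h7
    have hw : ∀ v, Norm.wq v = 0 ∨ Norm.wq v = 1 := fun v => by
      have h := @Nat.and_le_right (Nat.shiftRight 150 (Nat.land (Nat.land (Nat.shiftRight v 3) v) 7)) 1
      have h' : Norm.wq v ≤ 1 := h
      omega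
    have hs := S.sig_qmul c (show x < 128 by omega) (show x < 128 by omega)
    rw [h5, h7] at hs
    show Norm.wq (S.sig c x &&& 63) = Norm.wq x
    rcases hw x with e | e <;> rcases hw (S.sig c x &&& 63) with e' | e'
    · rw [e, e']
    · rw [e, e', show (0 : ℕ) <<< 6 = 0 from rfl, S.sig_zero] at hs
      exact absurd hs (by decide)
    · rw [e, e', show (1 : ℕ) <<< 6 = 64 from rfl, S.sig_top] at hs
      exact absurd hs (by decide)
    · rw [e, e']

theorem rho_mem_Q {q : C} (hq : q ∈ S.Q) : S.rho q = 1 := by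
  refine Norm.perm_ext fun v hv => ?_
  rw [S.rho_apply q hv, Norm.nf_one]
  obtain ⟨hx, hx'⟩ := S.cd_spec hq
  unfold low
  have e : S.sig q v = qmul (qmul (S.cd q) v) (qinv (S.cd q)) := by
    have h1 := (qmul_facts hx (show v < 128 by omega)).1
    have h2 := (qone_facts hx).2.2.2.1
    refine S.E_inj (S.sig_spec q (by omega)).1 (qmul_facts h1 h2).1 ?_
    rw [(S.sig_spec q (by omega)).2, S.hom _ _ h1 h2, S.hom _ _ hx (by omega), S.E_inv hx, hx']
  rw [e, qmul_low, qmul_low, qinv, show ∀ a b : ℕ, Nat.xor a b = a ^^^ b from fun _ _ => rfl]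
  obtain ⟨-, -, h, -⟩ := low_facts hx
  rw [h]
  refine Nat.eq_of_testBit_eq fun i => ?_
  simp only [Nat.testBit_and, Nat.testBit_xor, Nat.testBit_shiftLeft]
  by_cases hi : i < 6
  · simp only [ge_iff_le, show ¬ 6 ≤ i by omega, decide_false, Bool.false_and, Bool.xor_false]
    rw [show Nat.testBit 63 i = true by interval_cases i <;> rfl]
    cases (S.cd q).testBit i <;> cases v.testBit i <;> rfl
  · rw [Nat.testBit_lt_two_pow (show v < 2 ^ i from
      lt_of_lt_of_le hv (le_trans (by norm_num) (Nat.pow_le_pow_right two_pos (show 6 ≤ i by omega))))]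
    rw [show Nat.testBit 63 i = false from
      Nat.testBit_lt_two_pow (lt_of_lt_of_le (by norm_num) (Nat.pow_le_pow_right two_pos (show 6 ≤ i by omega)))]
    simp

end Setting

/-- The witness: the vector pairing with the six generators in a prescribed way. -/
noncomputable def swapHalves (p : ℕ) : ℕ := Nat.lor (Nat.shiftRight p 3) (Nat.shiftLeft (Nat.land p 7) 3)

noncomputable def innerOK : Bool :=
  allFrom (fun p => Nat.blt (swapHalves p) 128 && allFrom (fun i => Nat.beq
    (qmul (qmul (swapHalves p) (2 ^ i)) (qinv (swapHalves p)))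
    (Nat.xor (2 ^ i) (Nat.shiftLeft (Nat.land (Nat.shiftRight p i) 1) 6))) 0 6) 0 64

theorem inner_ok : innerOK = true := by decide +kernel

theorem exists_inner (f : ℕ → Bool) :
    ∃ q, q < 128 ∧ ∀ i, i < 6 → qmul (qmul q (2 ^ i)) (qinv q) = 2 ^ i ^^^ (if f i then 64 else 0) := by
  have key : ∀ b0 b1 b2 b3 b4 b5 : Bool, ∃ p : Fin 64, p.val.testBit 0 = b0 ∧ p.val.testBit 1 = b1 ∧
      p.val.testBit 2 = b2 ∧ p.val.testBit 3 = b3 ∧ p.val.testBit 4 = b4 ∧ p.val.testBit 5 = b5 := by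
    intro b0 b1 b2 b3 b4 b5
    refine ⟨⟨(cond b0 1 0) + (cond b1 2 0) + (cond b2 4 0) + (cond b3 8 0) + (cond b4 16 0) + (cond b5 32 0), by
      cases b0 <;> cases b1 <;> cases b2 <;> cases b3 <;> cases b4 <;> cases b5 <;> decide⟩, ?_⟩
    cases b0 <;> cases b1 <;> cases b2 <;> cases b3 <;> cases b4 <;> cases b5 <;> decide +kernel
  obtain ⟨p, h0, h1, h2, h3, h4, h5⟩ := key (f 0) (f 1) (f 2) (f 3) (f 4) (f 5)
  have h := inner_ok
  unfold innerOK at h
  have hp := of_allFrom h p.2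
  simp only [Bool.and_eq_true] at hp
  refine ⟨swapHalves p, Nat.le_of_ble_eq_true hp.1, fun i hi => ?_⟩
  have hi' := of_allFrom hp.2 hi
  refine (beq_eq hi').trans ?_
  have e : p.val.testBit i = f i := by interval_cases i <;> assumption
  rw [← e]
  show 2 ^ i ^^^ ((p.val >>> i) &&& 1) <<< 6 = _
  rw [Nat.and_one_is_mod, Nat.shiftRight_eq_div_pow]
  have hb : p.val.testBit i = decide (p.val / 2 ^ i % 2 = 1) := Nat.testBit_eq_decide_div_mod_eq
  rcases Nat.mod_two_eq_zero_or_one (p.val / 2 ^ i) with e' | e' <;> rw [e'] at hb ⊢ <;> simp [hb]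

namespace Setting

theorem mem_of_comm {x : C} (h : ∀ i, i < 6 → Commute x (S.E (2 ^ i))) : x ∈ S.Q := by
  refine S.cent (Subgroup.mem_centralizer_iff.2 fun q hq => ?_)
  obtain ⟨y, hy, rfl⟩ := S.surj q hq
  refine (code_induction splitTab_valid (fun y => Commute x (S.E y)) ?_ ?_ h ?_ hy).eq.symm
  · rw [S.E_zero]; exact Commute.one_right _
  · intro a b ha hb i1 i2; rw [S.hom a b ha hb]; exact i1.mul_right i2
  · rw [S.top]; exact (S.central x).symm

theorem eq_one_or_top {x : C} (hx : x ∈ S.Q) (h : ∀ i, i < 6 → Commute x (S.E (2 ^ i))) : x = 1 ∨ x = S.t := by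
  obtain ⟨hc, hc'⟩ := S.cd_spec hx
  have key : ∀ y : Fin 128, (∀ i : Fin 6, qmul y (2 ^ i.val) = qmul (2 ^ i.val) y) → y.val = 0 ∨ y.val = 64 := by
    decide +kernel
  rcases key ⟨_, hc⟩ (fun i => S.E_inj (qmul_facts hc (by have := (unit_facts i.2).1; omega)).1
    (qmul_facts (by have := (unit_facts i.2).1; omega) hc).1 (by
      rw [S.hom _ _ hc (by have := (unit_facts i.2).1; omega), S.hom _ _ (by have := (unit_facts i.2).1; omega) hc, hc']
      exact (h i i.2).eq)) with e | e <;> simp only at e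
  · left; rw [← hc', e, S.E_zero]
  · right; rw [← hc', e, S.top]

/-- Only the elements of the normal subgroup act trivially. -/
theorem mem_Q_of_rho_eq_one {c : C} (h : S.rho c = 1) : c ∈ S.Q := by
  let f : ℕ → Bool := fun i => !Nat.beq (S.sig c (2 ^ i)) (2 ^ i)
  obtain ⟨q, hq, hqi⟩ := exists_inner f
  have hfix : ∀ i, i < 6 → S.sig c (2 ^ i) = qmul (qmul q (2 ^ i)) (qinv q) := by
    intro i hi
    have hu := (unit_facts hi).1
    have h1 : S.sig c (2 ^ i) &&& 63 = 2 ^ i := by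
      have := S.rho_apply c hu
      rw [h, Norm.nf_one] at this
      exact this.symm
    obtain ⟨h2, -⟩ := S.sig_spec c (show 2 ^ i < 128 by omega)
    obtain ⟨-, h3, -, -⟩ := low_facts h2
    rw [h1] at h3
    rw [hqi i hi]
    rcases h3 with h3 | h3
    · simp [f, h3]
    · have hne : Nat.beq (S.sig c (2 ^ i)) (2 ^ i) = false := Bool.eq_false_iff.2 fun e => by
        rw [h3] at e
        have e2 := congrArg (Nat.testBit · 6) (beq_eq e)
        simp [Nat.testBit_xor, show Nat.testBit 64 6 = true from rfl] at e2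
      simp only [f, hne, Bool.not_false, if_true]
      exact h3
  have h6 : (S.E q)⁻¹ * c ∈ S.Q := by
    refine S.mem_of_comm fun i hi => ?_
    have hu : 2 ^ i < 128 := by have := (unit_facts hi).1; omega
    have h1 := (S.sig_spec c hu).2
    rw [hfix i hi, S.hom _ _ (qmul_facts hq hu).1 (qone_facts hq).2.2.2.1, S.hom _ _ hq hu, S.E_inv hq] at h1
    show (S.E q)⁻¹ * c * S.E (2 ^ i) = S.E (2 ^ i) * ((S.E q)⁻¹ * c)
    calc (S.E q)⁻¹ * c * S.E (2 ^ i) = (S.E q)⁻¹ * (c * S.E (2 ^ i) * c⁻¹) * c := by group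
      _ = S.E (2 ^ i) * ((S.E q)⁻¹ * c) := by rw [← h1]; group
  exact (S.Q.mul_mem_cancel_left (S.Q.inv_mem (S.mem q hq))).1 h6

end Setting

end CfsgLib.Spor.HeldRecog
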