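/-
Coordinates on an extraspecial group of order 2^7 with an elementary abelian subgroup of order 16.
-/
import Cfsg.Agent.Lib.Spor.HeldRecog.Model.Basic
import Cfsg.Agent.Lib.Spor.ExtraspecialOut

set_option autoImplicit false

namespace CfsgLib.Spor.HeldRecog

open CfsgLib.PGroup CfsgLib.Spor.ExtraOut

local notation "F2" => ZMod 2

/-- A bit as an element of the field. -/
def fbit (x i : ℕ) : F2 := cond (x.testBit i) 1 0

theorem fbit_xor (x y i : ℕ) : fbit (x ^^^ y) i = fbit x i + fbit y i := by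
  unfold fbit
  rw [Nat.testBit_xor]
  cases x.testBit i <;> cases y.testBit i <;> decide

/-- Coordinates. -/
def conv (x : ℕ) : Model (plusMat 3) :=
  ⟨Sum.elim (fun i : Fin 3 => fbit x (i.val + 3)) (fun i : Fin 3 => fbit x i.val), fbit x 6⟩

theorem fbit_par : ∀ a : Fin 8, ∀ b : Fin 8, fbit (Nat.shiftLeft (par3 (Nat.land a.val b.val)) 6) 6 =
      ∑ i : Fin 3, fbit a.val i.val * fbit b.val i.val := by
  decide +kernel

theorem fbit_shiftLeft_six (p : ℕ) {i : ℕ} (hi : i < 6) : fbit (p <<< 6) i = 0 := by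
  unfold fbit
  rw [Nat.testBit_shiftLeft]
  simp [show ¬ 6 ≤ i by omega]

theorem testBit_seven {i : ℕ} (hi : i < 3) : Nat.testBit 7 i = true := by
  interval_cases i <;> rfl

theorem conv_mul (x y : ℕ) : conv (qmul x y) = conv x * conv y := by
  refine Model.ext ?_ ?_
  · rw [ExtraOut.mul_v]
    funext j
    rcases j with ⟨i, hi⟩ | ⟨i, hi⟩
    · show fbit (qmul x y) (i + 3) = fbit x (i + 3) + fbit y (i + 3)
      rw [qmul_eq, fbit_xor, fbit_xor, fbit_shiftLeft_six _ (by omega), add_zero]
    · show fbit (qmul x y) i = fbit x i + fbit y i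
      rw [qmul_eq, fbit_xor, fbit_xor, fbit_shiftLeft_six _ (by omega), add_zero]
  · rw [ExtraOut.mul_c, bl_plus]
    show fbit (qmul x y) 6 = fbit x 6 + fbit y 6 + ∑ i : Fin 3, fbit x (i.val + 3) * fbit y i.val
    rw [qmul_eq, fbit_xor, fbit_xor]
    congr 1
    have h := fbit_par ⟨(x >>> 3) &&& 7, and_seven_lt _⟩ ⟨y &&& 7, and_seven_lt _⟩
    refine h.trans (Finset.sum_congr rfl fun i _ => ?_)
    congr 1
    · unfold fbit
      rw [Nat.testBit_and, testBit_seven i.2, Bool.and_true, Nat.testBit_shiftRight, Nat.add_comm]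
    · unfold fbit
      rw [Nat.testBit_and, testBit_seven i.2, Bool.and_true]

theorem conv_eq_one {x : ℕ} (hx : x < 128) (h : conv x = 1) : x = 0 := by
  refine Nat.eq_of_testBit_eq fun i => ?_
  rw [Nat.zero_testBit]
  have hb : ∀ j, fbit x j = 0 → x.testBit j = false := fun j hj => by
    unfold fbit at hj
    cases hc : x.testBit j
    · rfl
    · rw [hc] at hj; exact absurd hj one_ne_zero
  by_cases h3 : i < 3
  · exact hb i (congrFun (congrArg Model.v h) (.inr ⟨i, h3⟩))
  by_cases h6 : i < 6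
  · have := congrFun (congrArg Model.v h) (.inl ⟨i - 3, by omega⟩)
    rw [one_v] at this
    exact hb i (by simpa [conv, show i - 3 + 3 = i by omega] using this)
  by_cases h7 : i = 6
  · subst h7; exact hb 6 (congrArg Model.c h)
  · exact Nat.testBit_eq_false_of_lt (lt_of_lt_of_le hx (Nat.pow_le_pow_right two_pos (show 7 ≤ i by omega)))

/-- Coordinates on the group: a homomorphism from the codes, bijective, with the centre at 64. -/
theorem exists_qmap {P : Type*} [Group P] [Finite P] (h : Cfsg.IsExtraspecial 2 P) (hcard : Nat.card P = 2 ^ 7)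
    (hplus : ∃ A : Subgroup P, Cfsg.IsElementaryAbelian 2 A ∧ Nat.card A = 2 ^ 4) :
    ∃ E : ℕ → P, (∀ x y, x < 128 → y < 128 → E (qmul x y) = E x * E y) ∧
      (∀ x, x < 128 → E x = 1 → x = 0) ∧ (∀ p, ∃ x, x < 128 ∧ E x = p) ∧
      (∀ p, p ∈ Subgroup.center P → p = 1 ∨ p = E 64) := by
  haveI := Fact.mk Nat.prime_two
  obtain ⟨hS, z, hz, hz1⟩ := smallCenter_of_extraspecial h
  obtain ⟨A, ⟨_, hA⟩, hAc⟩ := hplus
  have hB := nondeg_plus 3
  have hM := ExtraOut.smallCenter hB
  have hMc : Nat.card (Model (plusMat 3)) = 2 ^ (2 * 3 + 1) := by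
    rw [card_model]; simp
  let A' : Subgroup (Model (plusMat 3)) :=
    { carrier := {x | ∀ i : Fin 3, x.v (.inl i) = 0}
      one_mem' := fun _ => rfl
      mul_mem' := fun {a b} ha hb i => by rw [ExtraOut.mul_v, Pi.add_apply, ha i, hb i, add_zero]
      inv_mem' := fun {a} ha i => by rw [inv_v]; exact ha i }
  have hA'2 : ∀ a ∈ A', a ^ 2 = 1 := fun a ha => by
    rw [ExtraOut.sq_eq_one_iff, bl_plus]
    exact Finset.sum_eq_zero fun i _ => by rw [ha i, zero_mul]
  have hA'c : Nat.card A' = 2 ^ (3 + 1) := by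
    rw [Nat.card_congr (α := ↥A') (β := (Fin 3 → F2) × F2)
      { toFun := fun a : ↥A' => (fun i => (a : Model (plusMat 3)).v (.inr i), (a : Model (plusMat 3)).c)
        invFun := fun p => ⟨(⟨Sum.elim (fun _ : Fin 3 => 0) p.1, p.2⟩ : Model (plusMat 3)), fun _ => rfl⟩
        left_inv := fun a => Subtype.ext (Model.ext (funext fun (j : Fin 3 ⊕ Fin 3) => by
          rcases j with i | i
          · exact (a.2 i).symm
          · rfl) rfl)
        right_inv := fun p => rfl }]
    simp
  have hsign : signSum (Model (plusMat 3)) = signSum P := by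
    rw [sign_pos hM hMc A' hA'2 hA'c, sign_pos hS (n := 3) hcard A hA hAc]
  obtain ⟨φ, hφ⟩ := exists_equiv_of_signSum 3 (by omega) (Model (plusMat 3)) P hM hS hMc hcard hsign
    ⟨0, 1⟩ (mk_mem_center 1) cen_ne_one z hz hz1
  refine ⟨fun x => φ (conv x), fun x y _ _ => by simp only [conv_mul, map_mul],
    fun x hx e => conv_eq_one hx (φ.injective (e.trans (map_one φ).symm)), fun p => ?_, fun p hp => ?_⟩
  · let f : Fin 128 → Model (plusMat 3) := fun x => conv x
    have hf : Function.Injective f := by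
      intro a b e
      have ha := a.2
      have hb := b.2
      obtain ⟨h1, h2, h3, h4, -⟩ := qone_facts hb
      have e' : conv (qmul a (qinv b)) = 1 := by
        rw [conv_mul, show conv (a : ℕ) = conv b from e, ← conv_mul, h3]
        refine Model.ext (funext fun j => ?_) rfl
        rcases j with i | i <;> simp [conv, fbit] <;> rfl
      have h5 := conv_eq_one (qmul_facts ha h4).1 e'
      have h6 : qmul (qmul a (qinv b)) b = (b : ℕ) := by rw [h5, h2]
      rw [qmul_assoc ha h4 hb] at h6
      have h7 : qmul (qinv b) b = 0 := by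
        obtain ⟨g1, g2, g3, g4, -⟩ := qone_facts h4
        calc qmul (qinv b) b = qmul (qmul (qinv b) b) (qmul (qinv b) (qinv (qinv b))) := by
              rw [g3, (qone_facts (qmul_facts h4 hb).1).1]
          _ = qmul (qinv b) (qmul (qmul b (qinv b)) (qinv (qinv b))) := by
              rw [qmul_assoc h4 hb (qmul_facts h4 g4).1, qmul_assoc hb h4 g4]
          _ = 0 := by rw [h3, (qone_facts g4).2.1, g3]
      rw [h7, (qone_facts ha).1] at h6
      exact Fin.ext h6
    have hb : Function.Bijective f := hf.bijective_of_nat_card_le (by rw [hMc]; simp)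
    obtain ⟨x, hx⟩ := hb.2 (φ.symm p)
    exact ⟨x, x.2, by simp only [show conv (x : ℕ) = φ.symm p from hx, φ.apply_symm_apply]⟩
  · have h64 : φ (conv 64) = z := by
      rw [← hφ]
      congr 1
      refine Model.ext (funext fun j => ?_) rfl
      rcases j with i | i <;> fin_cases i <;> rfl
    show p = 1 ∨ p = φ (conv 64)
    rw [h64]
    exact mem_pair_of_card_two hS.card_center hz hz1 hp

end CfsgLib.Spor.HeldRecog
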