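/-
The centralizer of an involution is one of the four models.
-/
import Cfsg.Agent.Lib.Spor.HeldRecog.Cent.Action
import Cfsg.Agent.Lib.Spor.HeldRecog.Cent.QMap
import Mathlib.LinearAlgebra.Matrix.SpecialLinearGroup

set_option autoImplicit false
set_option maxRecDepth 100000

namespace CfsgLib.Spor.HeldRecog

open CfsgLib.Spor.TC Matrix

local notation "SL32" => Matrix.SpecialLinearGroup (Fin 3) (ZMod 2)

/-- An element of order seven. -/
def slD : SL32 := ⟨!![0, 0, 1; 1, 0, 1; 0, 1, 0], by decide +kernel⟩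

/-- An element of order three normalising it. -/
def slB : SL32 := ⟨!![1, 0, 0; 0, 0, 1; 0, 1, 1], by decide +kernel⟩

/-- An involution inverting the latter. -/
def slT : SL32 := ⟨!![1, 0, 0; 0, 1, 1; 0, 0, 1], by decide +kernel⟩

/-- A word in the three elements. -/
def slEv (w : List ℕ) : SL32 := (w.map fun a => if a = 0 then slD else if a = 1 then slB else slT).prod

theorem sl_rels : slD ^ 7 = 1 ∧ slD ≠ 1 ∧ slB ^ 3 = 1 ∧ slB * slD = slD ^ 2 * slB ∧ slT * slT = 1 ∧
    slT * slB = slB * slB * slT ∧ (slT * slD) ^ 4 = 1 ∧ (slT * slD ^ 2) ^ 3 = 1 ∧ (slT * slD ^ 3) ^ 7 = 1 := by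
  decide +kernel

theorem sl_words : ∀ p ∈ Norm.wordPairs, slEv p.1 * slEv p.1 = 1 ∧ slEv p.2 ^ 3 = 1 ∧
    (slEv p.1 * slEv p.2) ^ 7 = 1 ∧ (slEv p.1 * (slEv p.2 * slEv p.2) * slEv p.1 * slEv p.2) ^ 4 = 1 := by
  decide +kernel

theorem card_sl : Nat.card SL32 = 168 := by
  rw [Nat.card_eq_fintype_card]
  decide +kernel

/-- The relations of the two generators in the group of order 168, and its faithfulness on the quotient. -/
noncomputable def lrelOK (T : Tab) : Bool :=
  Nat.beq (T.lmul T.ga T.ga) 0 && (Nat.beq (T.lmul (T.lmul T.gb T.gb) T.gb) 0 &&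
  (Nat.beq (Nat.rec (motive := fun _ => ℕ) 0 (fun _ ih => T.lmul ih (T.lmul T.ga T.gb)) 7) 0 &&
  (Nat.beq (Nat.rec (motive := fun _ => ℕ) 0
    (fun _ ih => T.lmul ih (T.lmul (T.lmul (T.lmul T.ga (T.linv T.gb)) T.ga) T.gb)) 4) 0 &&
  allFrom (fun l => allFrom (fun l' => Nat.beq l l' ||
    !allFrom (fun i => Nat.beq (Norm.wAct T l (2 ^ i)) (Norm.wAct T l' (2 ^ i))) 0 6) 0 168) 0 168)))

theorem split_lrel : lrelOK splitTab = true := by decide +kernel
theorem uni_lrel : lrelOK uniTab = true := by decide +kernel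

theorem qword_unit {M : Type*} [Group M] (e : ℕ → M) (z : M) {i : ℕ} (hi : i < 6) : qword e z (2 ^ i) = e i := by
  unfold qword
  interval_cases i <;> simp [List.range_succ, Nat.testBit]

theorem qword_top {M : Type*} [Group M] (e : ℕ → M) (z : M) : qword e z 64 = z := by
  unfold qword
  simp [List.range_succ, Nat.testBit]

theorem qword_zero {M : Type*} [Group M] (e : ℕ → M) (z : M) : qword e z 0 = 1 := by
  unfold qword
  simp [List.range_succ]

universe v

variable {C : Type v} [Group C] [Finite C]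

/-- A frame with the given module and either sign. -/
theorem exists_frame (S : Setting C) (hcard : Nat.card C = 21504) (ht : S.t ≠ 1)
    (eq : ∀ (_ : S.Q.Normal), C ⧸ S.Q ≃* SL32) :
    ∃ T, (T = splitTab ∨ T = uniTab) ∧ ∃ (pz : Bool) (F : Frame pairBit (paT T T.ga) (paT T T.gb) pz C), F.z = S.t := by
  classical
  haveI := S.normal
  let e := eq S.normal
  -- the action of SL(3,2)
  let bar : C ⧸ S.Q →* Equiv.Perm (Fin 64) := QuotientGroup.lift S.Q S.rho fun q hq => S.rho_mem_Q hq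
  let ψ : SL32 →* Equiv.Perm (Fin 64) := bar.comp e.symm.toMonoidHom
  let π : C →* SL32 := e.toMonoidHom.comp (QuotientGroup.mk' S.Q)
  have hπ : Function.Surjective π := e.surjective.comp (QuotientGroup.mk'_surjective S.Q)
  have hψπ : ∀ c, ψ (π c) = S.rho c := fun c => by
    show bar (e.symm (e (QuotientGroup.mk c))) = S.rho c
    rw [e.symm_apply_apply]; rfl
  have hπQ : ∀ c, π c = 1 → c ∈ S.Q := fun c hc => by
    have : (QuotientGroup.mk c : C ⧸ S.Q) = 1 := e.map_eq_one_iff.1 hc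
    exact (QuotientGroup.eq_one_iff c).1 this
  have hψmem : ∀ x, ψ x ∈ Norm.orth := fun x => by
    obtain ⟨c, rfl⟩ := hπ x
    rw [hψπ]; exact S.rho_mem c
  have hψinj : ∀ x, ψ x = 1 → x = 1 := fun x hx => by
    obtain ⟨c, rfl⟩ := hπ x
    rw [hψπ] at hx
    show e (QuotientGroup.mk c) = 1
    rw [(QuotientGroup.eq_one_iff c).2 (S.mem_Q_of_rho_eq_one hx), map_one]
  obtain ⟨r1, r2, r3, r4, r5, r6, r7, r8, r9⟩ := sl_rels
  obtain ⟨j, hj, g, hg, hgA, hgB⟩ := Norm.normal_form (D := ψ slD) (B := ψ slB) (T := ψ slT) (hψmem _) (hψmem _)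
    (hψmem _) (fun h => r2 (hψinj _ h)) (by rw [← map_pow, r1, map_one]) (by rw [← map_pow, r3, map_one])
    (by rw [← map_inv, ← map_mul, ← map_mul, ← map_pow, r4, mul_inv_cancel_right]) (by rw [← map_mul, r5, map_one])
    (by rw [← map_mul, r6, map_mul, map_mul]) (by rw [← map_mul, ← map_pow, r7, map_one])
    (by rw [← map_pow, ← map_mul, ← map_pow, r8, map_one]) (by rw [← map_pow, ← map_mul, ← map_pow, r9, map_one])
  have hev : ∀ w, Norm.ev3 (ψ slD) (ψ slB) (ψ slT) w = ψ (slEv w) := fun w => by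
    rw [slEv, map_list_prod, List.map_map, Norm.ev3]
    congr 1
    refine List.map_congr_left fun a _ => ?_
    simp only [Function.comp_apply]
    split_ifs <;> rfl
  rw [hev] at hgA hgB
  set T := Norm.tabAt j with hT
  have hTab : T = splitTab ∨ T = uniTab := by
    rw [hT]; unfold Norm.tabAt
    cases (Norm.sols.getD j (0, 0, false, 0)).2.2.1
    · exact Or.inl rfl
    · exact Or.inr rfl
  have hv : T.Valid := by rcases hTab with h | h <;> rw [h]; exacts [splitTab_valid, uniTab_valid]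
  have hlrel : lrelOK T = true := by rcases hTab with h | h <;> rw [h]; exacts [split_lrel, uni_lrel]
  unfold lrelOK at hlrel
  simp only [Bool.and_eq_true] at hlrel
  obtain ⟨la, lb, lab, lc, ldist⟩ := hlrel
  obtain ⟨a, ha⟩ := hπ (slEv (Norm.wordsAt j).1)
  obtain ⟨b, hb⟩ := hπ (slEv (Norm.wordsAt j).2)
  rw [← ha, hψπ] at hgA
  rw [← hb, hψπ] at hgB
  have hwp : Norm.wordsAt j ∈ Norm.wordPairs := by
    unfold Norm.wordsAt
    interval_cases j <;> simp [Norm.sols, Norm.wordPairs]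
  obtain ⟨w1, w2, w3, w4⟩ := sl_words _ hwp
  rw [← ha] at w1 w3 w4
  rw [← hb] at w2 w3 w4
  -- the new frame
  let vv : ℕ → ℕ := fun x => Norm.nf g⁻¹ x
  have hgi : Norm.InO g⁻¹ := inv_mem hg
  have hvl : ∀ x, x < 64 → vv x < 64 := fun x hx => Norm.nf_lt hx
  let ee : ℕ → C := fun i => S.E (vv (2 ^ i))
  have hee : ∀ i, i < 6 → ee i ∈ S.Q := fun i hi => S.mem _ (by have := hvl _ (unit_facts hi).1; omega)
  have hlow : ∀ x, x < 64 → x &&& 63 = x := fun x hx => by
    rw [show (63 : ℕ) = 2 ^ 6 - 1 from rfl, Nat.and_two_pow_sub_one_eq_mod, Nat.mod_eq_of_lt (by norm_num; omega)]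
  have hsqv : ∀ i, i < 6 → qmul (vv (2 ^ i)) (vv (2 ^ i)) = 0 := fun i hi => by
    have hu := unit_facts hi
    obtain ⟨-, -, h1, -⟩ := low_facts (show vv (2 ^ i) < 128 by have := hvl _ hu.1; omega)
    obtain ⟨-, -, h2, -⟩ := low_facts (show 2 ^ i < 128 by omega)
    rw [hlow _ (hvl _ hu.1), show Norm.wq (vv (2 ^ i)) = Norm.wq (2 ^ i) from hgi.2 _ hu.1] at h1
    rw [hlow _ hu.1, hu.2.1] at h2
    rw [h1, ← h2]
  have hsq : ∀ i, i < 6 → ee i * ee i = 1 := fun i hi => by
    have := hvl _ (unit_facts hi).1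
    rw [← S.hom _ _ (by omega) (by omega), hsqv i hi, S.E_zero]
  have htt : S.t * S.t = 1 := by
    rw [← S.top, ← S.hom _ _ (by omega) (by omega), show qmul 64 64 = 0 from by decide +kernel, S.E_zero]
  have hcomm : ∀ i k, i < 6 → k < 6 → ee i * ee k = (if pairBit i k then S.t else 1) * (ee k * ee i) := by
    intro i k hi hk
    have hi' := hvl _ (unit_facts hi).1
    have hk' := hvl _ (unit_facts hk).1
    have hb' : Norm.wq (vv (2 ^ i) ^^^ vv (2 ^ k)) ^^^ (Norm.wq (vv (2 ^ i)) ^^^ Norm.wq (vv (2 ^ k))) =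
        Norm.wq (2 ^ i ^^^ 2 ^ k) ^^^ (Norm.wq (2 ^ i) ^^^ Norm.wq (2 ^ k)) := by
      have hui := (unit_facts hi).1
      have huk := (unit_facts hk).1
      rw [show vv (2 ^ i) ^^^ vv (2 ^ k) = vv (2 ^ i ^^^ 2 ^ k) from (hgi.1 _ _ hui huk).symm,
        hgi.2 _ (Norm.xor_lt hui huk), hgi.2 _ hui, hgi.2 _ huk]
    rw [← S.hom _ _ (by omega) (by omega), ← S.hom _ _ (by omega) (by omega),
      qmul_comm_bit hi' hk', hb']
    have hq := (qmul_facts (show vv (2 ^ k) < 128 by omega) (show vv (2 ^ i) < 128 by omega)).1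
    cases hp : pairBit i k
    · have : Norm.wq (2 ^ i ^^^ 2 ^ k) ^^^ (Norm.wq (2 ^ i) ^^^ Norm.wq (2 ^ k)) = 0 := by
        revert hp; interval_cases i <;> interval_cases k <;> decide +kernel
      rw [this]; simp
    · have : Norm.wq (2 ^ i ^^^ 2 ^ k) ^^^ (Norm.wq (2 ^ i) ^^^ Norm.wq (2 ^ k)) = 1 := beq_eq hp
      rw [this, show (1 : ℕ) <<< 6 = 64 from rfl, if_pos rfl, ← (qone_facts hq).2.2.2.2.2, S.hom _ _ (by omega) hq,
        S.top]
  have qh : ∀ x y, x < 128 → y < 128 → qword ee S.t (qmul x y) = qword ee S.t x * qword ee S.t y :=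
    fun x y hx hy => qword_mul hsq htt (fun i _ => S.central _) hcomm hx hy
  have htQ : S.t ∈ S.Q := S.top ▸ S.mem 64 (by omega)
  have qmem : ∀ x, qword ee S.t x ∈ S.Q := fun x => qword_mem hee htQ x
  have cd_mul : ∀ x y, x ∈ S.Q → y ∈ S.Q → S.cd (x * y) = qmul (S.cd x) (S.cd y) := by
    intro x y hx hy
    obtain ⟨h1, h2⟩ := S.cd_spec hx
    obtain ⟨h3, h4⟩ := S.cd_spec hy
    refine S.E_inj (S.cd_spec (mul_mem hx hy)).1 (qmul_facts h1 h3).1 ?_
    rw [(S.cd_spec (mul_mem hx hy)).2, S.hom _ _ h1 h3, h2, h4]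
  have qlow : ∀ x, x < 128 → S.cd (qword ee S.t x) &&& 63 = vv (x &&& 63) := by
    intro x hx
    refine code_induction hv (fun x => S.cd (qword ee S.t x) &&& 63 = vv (x &&& 63)) ?_ ?_ ?_ ?_ hx
    · rw [qword_zero, ← S.E_zero, S.cd_E (by omega)]
      exact (Norm.nf_zero hgi).symm
    · intro x y hx hy i1 i2
      rw [qh x y hx hy, cd_mul _ _ (qmem x) (qmem y), qmul_low, i1, i2, qmul_low]
      exact (hgi.1 _ _ (low_facts hx).2.2.2 (low_facts hy).2.2.2).symm
    · intro i hi
      have := hvl _ (unit_facts hi).1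
      rw [qword_unit _ _ hi, S.cd_E (by omega), hlow _ (by omega), hlow _ (unit_facts hi).1]
    · rw [qword_top, ← S.top, S.cd_E (by omega)]
      exact (Norm.nf_zero hgi).symm
  have twoQ : ∀ x y, x ∈ S.Q → y ∈ S.Q → S.cd x &&& 63 = S.cd y &&& 63 → x = y ∨ x = y * S.t := by
    intro x y hx hy h
    obtain ⟨h1, h2⟩ := S.cd_spec hx
    obtain ⟨h3, h4⟩ := S.cd_spec hy
    obtain ⟨-, c1, -, c3⟩ := low_facts h1
    obtain ⟨-, d1, -, -⟩ := low_facts h3
    rw [← h] at d1
    have h64 : ∀ z, z < 128 → S.E (z ^^^ 64) = S.E z * S.t := fun z hz => by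
      rw [← (qone_facts hz).2.2.2.2.1, S.hom z 64 hz (by omega), S.top]
    rw [← h2, ← h4]
    rcases c1 with c1 | c1 <;> rcases d1 with d1 | d1
    · left; rw [c1, d1]
    · right; rw [← h64 _ h3]; congr 1; rw [d1, Nat.xor_assoc, Nat.xor_self, Nat.xor_zero]; exact c1
    · right; rw [← h64 _ h3]; congr 1; rw [d1]; exact c1
    · left; rw [c1, d1]
  have qsurj : ∀ q ∈ S.Q, ∃ x, x < 128 ∧ qword ee S.t x = q := by
    intro q hq
    let x := Norm.nf g (S.cd q &&& 63)
    have hcl := (low_facts (S.cd_spec hq).1).2.2.2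
    have hx : x < 64 := Norm.nf_lt hcl
    have h1 : S.cd (qword ee S.t x) &&& 63 = S.cd q &&& 63 := by
      rw [qlow x (by omega), hlow _ hx]
      show Norm.nf g⁻¹ (Norm.nf g _) = _
      rw [← Norm.nf_mul, inv_mul_cancel, Norm.nf_one]
    rcases twoQ _ _ hq (qmem x) h1.symm with e1 | e1
    · exact ⟨x, by omega, e1.symm⟩
    · exact ⟨qmul x 64, (qmul_facts (by omega) (by omega)).1,
        by rw [qh _ _ (by omega) (by omega), qword_top]; exact e1.symm⟩
  -- elements with an exact action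
  let Acts : C → ℕ → Prop := fun c l => l < 168 ∧ ∀ p, p < 128 → c * qword ee S.t p * c⁻¹ = qword ee S.t (T.act l p)
  have acts_mul : ∀ c d l k, Acts c l → Acts d k → Acts (c * d) (T.lmul l k) := by
    rintro c d l k ⟨hl, hc⟩ ⟨hk, hd⟩
    refine ⟨(hv.lmul_lt hl hk).1, fun p hp => ?_⟩
    rw [hv.act_lmul hl hk hp, ← hc _ (hv.act_lt hk hp), ← hd p hp]
    group
  have acts_inv : ∀ c l, Acts c l → Acts c⁻¹ (T.linv l) := by
    rintro c l ⟨hl, hc⟩
    obtain ⟨hi, hli⟩ := hv.linv_facts hl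
    refine ⟨hi, fun p hp => ?_⟩
    have h1 := hc _ (hv.act_lt hi hp)
    rw [← hv.act_lmul hl hi hp, hli, hv.act_zero hp] at h1
    rw [← h1]
    group
  have acts_one : Acts 1 0 := ⟨by omega, fun p hp => by rw [hv.act_zero hp]; group⟩
  have acts_t : ∀ c l, Acts c l → Acts (c * S.t) l := by
    rintro c l ⟨hl, hc⟩
    refine ⟨hl, fun p hp => ?_⟩
    rw [← hc p hp]
    calc c * S.t * qword ee S.t p * (c * S.t)⁻¹ = c * (S.t * qword ee S.t p * S.t⁻¹) * c⁻¹ := by group
      _ = c * qword ee S.t p * c⁻¹ := by rw [(S.central _).eq, mul_inv_cancel_right]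
  have trivQ : ∀ c, π c = 1 → Acts c 0 → c = 1 ∨ c = S.t := by
    rintro c hc ⟨-, hact⟩
    refine S.eq_one_or_top (hπQ c hc) fun i hi => ?_
    obtain ⟨x, hx, hx'⟩ := qsurj _ (S.mem (2 ^ i) (by have := (unit_facts hi).1; omega))
    have := hact x hx
    rw [hv.act_zero hx, hx'] at this
    show c * S.E (2 ^ i) = S.E (2 ^ i) * c
    rwa [mul_inv_eq_iff_eq_mul] at this
  have lift : ∀ c l, l < 168 → (∀ v, v < 64 → Norm.nf (g * S.rho c * g⁻¹) v = Norm.wAct T l v) →
      ∃ q ∈ S.Q, Acts (c * q) l := by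
    intro c l hl hc
    let f : ℕ → Bool := fun i => !decide (c * ee i * c⁻¹ = qword ee S.t (T.act l (2 ^ i)))
    obtain ⟨q, hq, hqi⟩ := exists_inner f
    refine ⟨qword ee S.t q, qmem q, hl, ?_⟩
    have key : ∀ i, i < 6 → c * qword ee S.t q * ee i * (c * qword ee S.t q)⁻¹ = qword ee S.t (T.act l (2 ^ i)) := by
      intro i hi
      have hu := (unit_facts hi).1
      have hq' := qone_facts hq
      have h1 : qword ee S.t q * ee i * (qword ee S.t q)⁻¹ = qword ee S.t (2 ^ i ^^^ (if f i then 64 else 0)) := by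
        rw [← hqi i hi, qh _ _ (qmul_facts hq (by omega)).1 hq'.2.2.2.1, qh _ _ hq (by omega), qword_unit _ _ hi]
        congr 1
        refine inv_eq_of_mul_eq_one_right ?_
        rw [← qh _ _ hq hq'.2.2.2.1, hq'.2.2.1, qword_zero]
      rw [show c * qword ee S.t q * ee i * (c * qword ee S.t q)⁻¹ =
        c * (qword ee S.t q * ee i * (qword ee S.t q)⁻¹) * c⁻¹ by group, h1]
      by_cases he : c * ee i * c⁻¹ = qword ee S.t (T.act l (2 ^ i))
      · simp only [f, he, decide_true, Bool.not_true, Bool.false_eq_true, if_false, Nat.xor_zero]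
        rw [qword_unit _ _ hi, he]
      · simp only [f, he, decide_false, Bool.not_false, if_true]
        rw [← (qone_facts (show 2 ^ i < 128 by omega)).2.2.2.2.1, qh _ _ (by omega) (by omega), qword_unit _ _ hi,
          qword_top, show c * (ee i * S.t) * c⁻¹ = c * ee i * (S.t * c⁻¹) by group, (S.central c⁻¹).eq]
        have hm1 : c * ee i * c⁻¹ ∈ S.Q := S.normal.conj_mem _ (hee i hi) c
        have hal := hv.act_lt hl (show 2 ^ i < 128 by omega)
        have hlo : S.cd (c * ee i * c⁻¹) &&& 63 = S.cd (qword ee S.t (T.act l (2 ^ i))) &&& 63 := by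
          rw [qlow _ hal]
          show S.low c (vv (2 ^ i)) = Norm.nf g⁻¹ (Norm.wAct T l (2 ^ i))
          rw [← hc _ hu, ← S.rho_apply c (hvl _ hu), ← Norm.nf_mul, ← Norm.nf_mul]
          congr 1
          group
        rcases twoQ _ _ hm1 (qmem _) hlo with h | h
        · exact absurd h he
        · rw [← mul_assoc, h, mul_assoc, htt, mul_one]
    intro p hp
    refine code_induction hv (fun p => c * qword ee S.t q * qword ee S.t p * (c * qword ee S.t q)⁻¹ =
      qword ee S.t (T.act l p)) ?_ ?_ ?_ ?_ hp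
    · have h0 : T.act l 0 = 0 := by
        have e := hv.act_xor hl (show (64 : ℕ) < 128 by omega) (Or.inr rfl)
        rwa [show (64 : ℕ) ^^^ 64 = 0 from rfl, (hv.act_hom hl).2] at e
      rw [h0, qword_zero]; group
    · intro x y hx hy i1 i2
      rw [qh x y hx hy, (hv.act_hom hl).1 x y hx hy, qh _ _ (hv.act_lt hl hx) (hv.act_lt hl hy), ← i1, ← i2]
      group
    · intro i hi; rw [qword_unit _ _ hi]; exact key i hi
    · rw [(hv.act_hom hl).2, qword_top, ← (S.central _).eq, mul_inv_cancel_right]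
  obtain ⟨qa, hqa, Aa⟩ := lift a T.ga hv.gens_lt.1 hgA
  obtain ⟨qb, hqb, Ab⟩ := lift b T.gb hv.gens_lt.2 hgB
  have hπq : ∀ q, q ∈ S.Q → π q = 1 := fun q hq => by
    show e (QuotientGroup.mk q) = 1
    rw [(QuotientGroup.eq_one_iff q).2 hq, map_one]
  have hπt : π S.t = 1 := hπq _ htQ
  -- normalise the second generator
  obtain ⟨b2, Ab2, hb2, hb23⟩ : ∃ b2, Acts b2 T.gb ∧ π b2 = π b ∧ b2 ^ 3 = 1 := by
    have h3 : Acts ((b * qb) ^ 3) 0 := by
      have := acts_mul _ _ _ _ (acts_mul _ _ _ _ Ab Ab) Ab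
      rw [beq_eq lb] at this
      rwa [show (b * qb) ^ 3 = b * qb * (b * qb) * (b * qb) by rw [pow_succ, pow_two]]
    have h4 : π ((b * qb) ^ 3) = 1 := by rw [map_pow, map_mul, hπq qb hqb, mul_one, w2]
    rcases trivQ _ h4 h3 with h | h
    · exact ⟨b * qb, Ab, by rw [map_mul, hπq qb hqb, mul_one], h⟩
    · refine ⟨b * qb * S.t, acts_t _ _ Ab, by rw [map_mul, map_mul, hπq qb hqb, hπt, mul_one, mul_one], ?_⟩
      rw [((S.central (b * qb)).symm).mul_pow, h, pow_succ, pow_two, htt, one_mul, htt]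
  -- normalise the first generator
  obtain ⟨a2, Aa2, ha2, ha27⟩ : ∃ a2, Acts a2 T.ga ∧ π a2 = π a ∧ (a2 * b2) ^ 7 = 1 := by
    have hp : ∀ n : ℕ, Acts ((a * qa * b2) ^ n)
        (Nat.rec (motive := fun _ => ℕ) 0 (fun _ ih => T.lmul ih (T.lmul T.ga T.gb)) n) := by
      intro n
      induction n with
      | zero => rw [pow_zero]; exact acts_one
      | succ n ih => rw [pow_succ]; exact acts_mul _ _ _ _ ih (acts_mul _ _ _ _ Aa Ab2)
    have h7 := hp 7
    rw [beq_eq lab] at h7
    have h4 : π ((a * qa * b2) ^ 7) = 1 := by rw [map_pow, map_mul, map_mul, hπq qa hqa, mul_one, hb2, w3]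
    rcases trivQ _ h4 h7 with h | h
    · exact ⟨a * qa, Aa, by rw [map_mul, hπq qa hqa, mul_one], h⟩
    · refine ⟨a * qa * S.t, acts_t _ _ Aa, by rw [map_mul, map_mul, hπq qa hqa, hπt, mul_one, mul_one], ?_⟩
      rw [show a * qa * S.t * b2 = a * qa * b2 * S.t by rw [mul_assoc, (S.central b2).eq, ← mul_assoc],
        ((S.central (a * qa * b2)).symm).mul_pow, h]
      rw [show (7 : ℕ) = 2 * 3 + 1 from rfl, pow_succ, pow_mul, pow_two, htt, one_pow, one_mul, htt]
  obtain ⟨pz, hpz⟩ : ∃ pz : Bool, a2 * a2 = if pz then S.t else 1 := by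
    have h1 := acts_mul _ _ _ _ Aa2 Aa2
    rw [beq_eq la] at h1
    rcases trivQ _ (by rw [map_mul, ha2, w1]) h1 with h | h
    · exact ⟨false, h⟩
    · exact ⟨true, h⟩
  have hc4 : (a2 * b2⁻¹ * a2 * b2) ^ 4 = 1 ∨ (a2 * b2⁻¹ * a2 * b2) ^ 4 = S.t := by
    have hx := acts_mul _ _ _ _ (acts_mul _ _ _ _ (acts_mul _ _ _ _ Aa2 (acts_inv _ _ Ab2)) Aa2) Ab2
    have hp : ∀ n : ℕ, Acts ((a2 * b2⁻¹ * a2 * b2) ^ n) (Nat.rec (motive := fun _ => ℕ) 0
        (fun _ ih => T.lmul ih (T.lmul (T.lmul (T.lmul T.ga (T.linv T.gb)) T.ga) T.gb)) n) := by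
      intro n
      induction n with
      | zero => rw [pow_zero]; exact acts_one
      | succ n ih => rw [pow_succ]; exact acts_mul _ _ _ _ ih hx
    have h4 := hp 4
    rw [beq_eq lc] at h4
    refine trivQ _ ?_ h4
    have hbi : (π b)⁻¹ = π b * π b := inv_eq_of_mul_eq_one_right (by rw [← w2, pow_succ, pow_two]; group)
    rw [map_pow, map_mul, map_mul, map_mul, map_inv, ha2, hb2, hbi]
    exact w4
  -- generation
  have hgen : Subgroup.closure (ee '' Set.Iio 6 ∪ {S.t, a2, b2}) = ⊤ := by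
    set R := Subgroup.closure (ee '' Set.Iio 6 ∪ {S.t, a2, b2}) with hR
    have hQR : ∀ x, x < 128 → qword ee S.t x ∈ R := fun x _ =>
      qword_mem (S := R) (fun i hi => Subgroup.subset_closure (Or.inl ⟨i, hi, rfl⟩))
        (Subgroup.subset_closure (Or.inr (Or.inl rfl))) x
    have hc : ∀ l, l < 168 → ∃ c ∈ R, Acts c l := by
      refine hv.induction ⟨1, one_mem _, acts_one⟩ ?_
      rintro p k hp hk hkk ⟨c, hcR, hcA⟩
      rcases hkk with rfl | rfl
      · exact ⟨c * a2, mul_mem hcR (Subgroup.subset_closure (Or.inr (Or.inr (Or.inl rfl)))), acts_mul _ _ _ _ hcA Aa2⟩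
      · exact ⟨c * b2, mul_mem hcR (Subgroup.subset_closure (Or.inr (Or.inr (Or.inr rfl)))), acts_mul _ _ _ _ hcA Ab2⟩
    choose cl hclR hclA using hc
    have qinj : ∀ x y, x < 128 → y < 128 → qword ee S.t x = qword ee S.t y → x = y := by
      have hs : Function.Surjective fun x : Fin 128 => (⟨qword ee S.t x, qmem x⟩ : S.Q) := fun q => by
        obtain ⟨x, hx, hx'⟩ := qsurj q q.2
        exact ⟨⟨x, hx⟩, Subtype.ext hx'⟩
      have hge : Nat.card (Fin 128) ≤ Nat.card S.Q := by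
        refine Nat.card_le_card_of_injective (fun x : Fin 128 => (⟨S.E x, S.mem x x.2⟩ : S.Q)) fun a b h => ?_
        exact Fin.ext (S.E_inj a.2 b.2 (congrArg Subtype.val h))
      intro x y hx hy h
      have := (hs.bijective_of_nat_card_le hge).1 (a₁ := ⟨x, hx⟩) (a₂ := ⟨y, hy⟩) (Subtype.ext h)
      exact congrArg Fin.val this
    let F : Fin 168 × Fin 128 → R := fun x => ⟨qword ee S.t x.2 * cl x.1 x.1.2,
      mul_mem (hQR x.2 x.2.2) (hclR x.1 x.1.2)⟩
    have hF : Function.Injective F := by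
      rintro ⟨l, x⟩ ⟨l', x'⟩ h
      have h' : qword ee S.t x * cl l l.2 = qword ee S.t x' * cl l' l'.2 := congrArg Subtype.val h
      have hll : l = l' := by
        by_contra hne
        have hd := of_allFrom ldist l.2
        have hd' := of_allFrom hd l'.2
        simp only [Bool.or_eq_true, Bool.not_eq_true'] at hd'
        rcases hd' with hd' | hd'
        · exact hne (Fin.ext (beq_eq hd'))
        obtain ⟨i, hi, hbad⟩ := Norm.exists_of_allFrom_false hd'
        have hu := (unit_facts hi).1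
        -- both act in the same way modulo the centre
        obtain ⟨hl1, hA1⟩ := hclA l l.2
        obtain ⟨hl2, hA2⟩ := hclA l' l'.2
        have low_act : ∀ c : C, ∀ k : ℕ, k < 168 → c * qword ee S.t (2 ^ i) * c⁻¹ = qword ee S.t (T.act k (2 ^ i)) →
            S.low c (vv (2 ^ i)) = vv (Norm.wAct T k (2 ^ i)) := by
          intro c k hk h
          rw [qword_unit _ _ hi] at h
          show S.cd (c * ee i * c⁻¹) &&& 63 = _
          rw [h, qlow _ (hv.act_lt hk (by omega))]
          rfl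
        have e1 := low_act _ _ hl1 (hA1 _ (by omega))
        have e2 := low_act _ _ hl2 (hA2 _ (by omega))
        have er : S.rho (cl l l.2) = S.rho (cl l' l'.2) := by
          have := congrArg S.rho h'
          rwa [map_mul, map_mul, S.rho_mem_Q (qmem x), S.rho_mem_Q (qmem x'), one_mul, one_mul] at this
        rw [← S.rho_apply _ (hvl _ hu), er, S.rho_apply _ (hvl _ hu), e2] at e1
        have h5 : ∀ k, Norm.wAct T k (2 ^ i) ≤ 63 := fun k => Nat.and_le_right
        have := Norm.nf_inj (f := g⁻¹) (Nat.lt_succ_of_le (h5 _)) (Nat.lt_succ_of_le (h5 _)) e1.symm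
        rw [this] at hbad
        simp at hbad
      subst hll
      have := mul_right_cancel h'
      exact Prod.ext rfl (Fin.ext (qinj _ _ x.2 x'.2 this))
    have hRc := Nat.card_le_card_of_injective F hF
    rw [Nat.card_prod, Nat.card_fin, Nat.card_fin] at hRc
    exact Subgroup.eq_top_of_le_card R (by omega)
  exact ⟨T, hTab, pz,
    { e := ee, z := S.t, a := a2, b := b2, sq := hsq, zsq := htt, central := S.central, comm := hcomm
      actA := fun i hi => by
        have := Aa2.2 (2 ^ i) (by have := (unit_facts hi).1; omega)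
        rwa [qword_unit _ _ hi] at this
      actB := fun i hi => by
        have := Ab2.2 (2 ^ i) (by have := (unit_facts hi).1; omega)
        rwa [qword_unit _ _ hi] at this
      asq := hpz, bcube := hb23, abseven := ha27, comfour := hc4, gen := hgen }, rfl⟩

/-- The centralizer of an involution with the given structure is one of the four models, the involution being the
code 64. -/
theorem exists_model (t : C) (ht : ∀ c, Commute t c) (ht1 : t ≠ 1) (Q : Subgroup C) [Q.Normal]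
    (hQ : Cfsg.IsExtraspecial 2 Q) (hcard : Nat.card Q = 2 ^ 7)
    (hplus : ∃ E : Subgroup Q, Cfsg.IsElementaryAbelian 2 E ∧ Nat.card E = 2 ^ 4)
    (hcent : Subgroup.centralizer (Q : Set C) ≤ Q) (e : C ⧸ Q ≃* SL32) :
    (∃ φ : Cen splitTab ≃* C, φ (Cen.ofCode splitTab 64) = t) ∨
      (∃ φ : Cen splitTwistTab ≃* C, φ (Cen.ofCode splitTwistTab 64) = t) ∨
      (∃ φ : Cen uniTab ≃* C, φ (Cen.ofCode uniTab 64) = t) ∨
      (∃ φ : Cen uniTwistTab ≃* C, φ (Cen.ofCode uniTwistTab 64) = t) := by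
  have hC : Nat.card C = 21504 := by
    rw [Subgroup.card_eq_card_quotient_mul_card_subgroup Q, Nat.card_congr e.toEquiv, card_sl, hcard]; norm_num
  obtain ⟨E₀, hhom, hinj, hsurj, hcen⟩ := exists_qmap hQ hcard hplus
  have htQ : t ∈ Q := hcent (Subgroup.mem_centralizer_iff.2 fun q _ => (ht q).eq.symm)
  have ht64 : (E₀ 64 : C) = t := by
    rcases hcen ⟨t, htQ⟩ (Subgroup.mem_center_iff.2 fun q => Subtype.ext (ht q).eq.symm) with h | h
    · exact absurd (congrArg Subtype.val h) ht1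
    · exact (congrArg Subtype.val h).symm
  let S : Setting C :=
    { t := t, Q := Q, normal := inferInstance, E := fun x => (E₀ x : C)
      hom := fun x y hx hy => congrArg Subtype.val (hhom x y hx hy)
      inj := fun x hx h => hinj x hx (Subtype.ext h)
      mem := fun x _ => (E₀ x).2
      surj := fun c hc => by
        obtain ⟨x, hx, h⟩ := hsurj ⟨c, hc⟩
        exact ⟨x, hx, congrArg Subtype.val h⟩
      top := ht64, central := ht, cent := hcent }
  obtain ⟨T, hT, pz, F, hF⟩ := exists_frame S hC ht1 fun _ => e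
  have fin : ∀ (T' : Tab) (h : T'.Valid) (pa : ℕ), frameOK T' pz pa (bCode T') = true →
      ∀ (F' : Frame pairBit (paT T' T'.ga) (paT T' T'.gb) pz C), F'.z = t →
      letI := groupCen h
      ∃ φ : Cen T' ≃* C, φ (Cen.ofCode T' 64) = t := by
    intro T' h pa hk F' hF'
    letI := groupCen h
    haveI : Finite (Cen T') := Finite.of_equiv _ (Cen.equivFin T').symm
    obtain ⟨M, hM⟩ := exists_modelFrame h pz pa (bCode T') hk
    obtain ⟨φ, hφ, -⟩ := M.exists_equiv F' (Cen.natCard T') hC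
    exact ⟨φ, by rw [← hM, hφ, hF']⟩
  rcases hT with rfl | rfl <;> cases pz
  · exact Or.inl (fin splitTab splitTab_valid _ split_frame F hF)
  · exact Or.inr (Or.inl (fin splitTwistTab splitTwistTab_valid _ splitTwist_frame F hF))
  · exact Or.inr (Or.inr (Or.inl (fin uniTab uniTab_valid _ uni_frame F hF)))
  · exact Or.inr (Or.inr (Or.inr (fin uniTwistTab uniTwistTab_valid _ uniTwist_frame F hF)))

end CfsgLib.Spor.HeldRecog
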